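import Cfsg.Agent.H841.Phi_m3
import Cfsg.Agent.H48.OreFi.WFour
import Cfsg.Agent.H841.SevU
import Cfsg.Agent.S0288
import Cfsg.Agent.H841.TwG_m3
import Cfsg.Agent.OddHalf.D4.Spor.FiTF_m3
import Cfsg.Agent.H256.Sep.FiData
import Cfsg.Agent.H980.Ore.ThLoc_m3
import Cfsg.Agent.H502.TO.Main
import Cfsg.Agent.H468.PW.Th
import Cfsg.Agent.H894.ThThree.Main
import Cfsg.Agent.H822.Ore.Fi23Asm_m3
import Cfsg.Agent.H755.CC.Fi24
import Cfsg.Agent.H935.Fi23.Deg_m3
import Cfsg.Agent.FastGrp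
import Cfsg.Agent.Prune
set_option linter.all false

section
prune_inst 0x7f00000000000000000000000000000000000000000000000000000000000000000000000000000000000000000000000000000000000000000000000000000000000000000000000000000000000000003fffffffffffffffffffffffffffbeffbdffffffff

-- part: H48/OreFi/WOne_mg
section
set_option linter.all false
open scoped Cfsg.Agent.FastGrp

-- part: H597/OreFi/NotFive
section
/-!
# `Fi24`: an element of order prime to 5 commuting with an element of order 5 commutes with a transposition (helper597)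

* `S9_fix` : the symmetric group `S9 ≤ C(y0)` fixes the point of `l`;
* `comm_of_five` : `5 ∣ |C(g)|`, `5 ∤ orderOf g` give a transposition commuting with `g`;
* `not_five` : the same for `g : Spor.Fi24'`.
-/

set_option autoImplicit false
set_option maxRecDepth 100000

namespace Cfsg.Agent.H597.OreFi.NotFive

open Cfsg Cfsg.Agent.Lib.PermNet Cfsg.Agent.Lib.PermNetPt Cfsg.Agent.Fischer.Fi24RepDef Cfsg.Agent.Fischer.Fi24Rep
open Cfsg.Agent.Fischer.Fi24RepOrb (UG orbG)
open Cfsg.Agent.Fischer.Fi24Spider (word_append word_cons word_nil gword gen_conj)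
open Cfsg.Agent.R08.FiTwentyFour (L)
open Cfsg.Agent.KFacts.FiTF.Pts Cfsg.Agent.KFacts.FiTF.FixMask
open Cfsg.Agent.KFacts.FiTF.Defs (tr)
open Cfsg.Agent.LThreeFi24.SNineK Cfsg.Agent.LThreeFi24.SNine
open Cfsg.Agent.H841.Five
open Cfsg.Spor (Fi24)
open Cfsg.Spor.Fi24 (Gen)
open Equiv

theorem chk_s : ∀ m : Fin 8, chkPt (nw (gw.getD m []) false) 0 0 = true := by
  intro m
  (revert m; decide +kernel)

theorem s_fix (m : Fin 8) : rho (s m) 0 = 0 := rho_of_chkPt (chk_s m)

theorem S9_fix {g : Fi24} (hg : g ∈ S9) : rho g 0 = 0 := by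
  induction hg using Subgroup.closure_induction with
  | mem x hx => obtain ⟨m, rfl⟩ := hx; exact s_fix m
  | one => rw [map_one]; rfl
  | mul x y _ _ hx hy => rw [map_mul, Perm.mul_apply, hy, hx]
  | inv x _ hx => rw [map_inv, Perm.inv_eq_iff_eq, hx]

theorem Phi_l (σ : Perm (Fin 9)) : Commute (Phi σ) (gen .l) :=
  (isPt_l.comm_iff _).2 (S9_fix (Phi_mem σ))

theorem comm_of_pow {G : Type*} [Group G] {g d : G} {k : ℕ} (h : Commute (g ^ k) d) (hk : (orderOf g).Coprime k) :
    Commute g d := by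
  obtain ⟨m, hm⟩ := exists_pow_eq_self_of_coprime hk.symm
  rw [← hm]
  exact h.pow_left m

theorem comm_of_order_five {g y : Fi24} (hy : orderOf y = 5) (hc : Commute g y) (h5 : ¬ 5 ∣ orderOf g) :
    ∃ d ∈ L, Commute g d := by
  obtain ⟨c, hcy⟩ := Cfsg.Agent.LThreeFi24.FiveConj.exists_conj_five hy
  have hn : (c * g * c⁻¹) * y0 = y0 * (c * g * c⁻¹) := by
    rw [← hcy]
    calc c * g * c⁻¹ * (c * y * c⁻¹) = c * (g * y) * c⁻¹ := by group
      _ = c * (y * g) * c⁻¹ := by rw [hc.eq]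
      _ = _ := by group
  obtain ⟨i, σ, -, -, he⟩ := exists_of_comm hn
  have hy5 : y0 ^ 5 = 1 := by
    rw [← hcy, conj_pow, ← hy, pow_orderOf_eq_one, mul_one, mul_inv_cancel]
  have h1 : (c * g * c⁻¹) ^ 5 = (Phi σ) ^ 5 := by
    rw [he, (comm_y0_pow_Phi i σ).mul_pow, ← pow_mul, mul_comm i 5, pow_mul, hy5, one_pow, one_mul]
  have h2 : Commute ((c * g * c⁻¹) ^ 5) (gen .l) := by rw [h1]; exact (Phi_l σ).pow_left 5
  have ho : orderOf (c * g * c⁻¹) = orderOf g := by
    have := MulEquiv.orderOf_eq (MulAut.conj c) g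
    rwa [MulAut.conj_apply] at this
  have h3 : Commute (c * g * c⁻¹) (gen .l) := by
    refine comm_of_pow h2 ?_
    rw [ho, Nat.coprime_comm]
    exact (Nat.Prime.coprime_iff_not_dvd (by norm_num)).2 h5
  refine ⟨c⁻¹ * gen .l * c, ?_, ?_⟩
  · have := Cfsg.Agent.R08.FiTwentyFour.conj isPt_l.mem c⁻¹
    rwa [inv_inv] at this
  · show g * (c⁻¹ * gen .l * c) = c⁻¹ * gen .l * c * g
    calc g * (c⁻¹ * gen .l * c) = c⁻¹ * ((c * g * c⁻¹) * gen .l) * c := by group
      _ = c⁻¹ * (gen .l * (c * g * c⁻¹)) * c := by rw [h3.eq]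
      _ = _ := by group

/-- **not_five** -/
theorem not_five {g : Spor.Fi24'} (h5 : ¬ 5 ∣ orderOf g) (hD : ∀ d ∈ L, ¬ Commute (g : Fi24) d) :
    ¬ 5 ∣ Nat.card (Subgroup.centralizer ({g} : Set Spor.Fi24')) := by
  intro h
  have hfin : Finite Fi24 := Cfsg.Agent.R08.FiTwentyFour.finite_Fi24
  have : Fact (Nat.Prime 5) := ⟨by norm_num⟩
  obtain ⟨y, hy⟩ := exists_prime_orderOf_dvd_card' 5 h
  obtain ⟨d, hd, hdc⟩ := comm_of_order_five (g := (g : Fi24)) (y := ((y : Spor.Fi24') : Fi24))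
    (by rw [Subgroup.orderOf_coe, Subgroup.orderOf_coe, hy])
    (congrArg Subtype.val (Subgroup.mem_centralizer_singleton_iff.1 y.2).symm)
    (by rwa [Subgroup.orderOf_coe])
  exact hD d hd hdc

end Cfsg.Agent.H597.OreFi.NotFive
end

-- part: H48/OreFi/WOne
section
/-!
# `Fi24'`: the elements of order 9 and 27 over the elements of order 3 of width 6 (helper48)

* `exists_inter` : two `p`-subgroups of a group meet, up to conjugation, in a subgroup of the order given by Sylow;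
* `no_seven` : commuting linear maps of `F_3 ^ 6` of order 7 and of 3-power order;
* `wd_one : Wd 1`.
-/

set_option autoImplicit false
set_option maxRecDepth 100000

namespace Cfsg.Agent.H48.OreFi.WOne

open Subgroup

universe u

/-! ### Sylow subgroups -/

theorem exists_inter {G : Type u} [Group G] [Finite G] {p : ℕ} [hp : Fact p.Prime] {H T E : Subgroup G} (hT : T ≤ H)
    (hE : E ≤ H) {t e n m : ℕ} (cT : Nat.card T = p ^ t) (cE : Nat.card E = p ^ e) (hn : ¬ p ^ (n + 1) ∣ Nat.card H)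
    (hm : n + m = t + e) :
    ∃ h ∈ H, p ^ m ≤ Nat.card (T ⊓ E.map (MulAut.conj h).toMonoidHom : Subgroup G) := by
  have pT : IsPGroup p (T.subgroupOf H) := by
    refine IsPGroup.of_card (n := t) ?_
    rw [Nat.card_congr (subgroupOfEquivOfLe hT).toEquiv, cT]
  have pE : IsPGroup p (E.subgroupOf H) := by
    refine IsPGroup.of_card (n := e) ?_
    rw [Nat.card_congr (subgroupOfEquivOfLe hE).toEquiv, cE]
  obtain ⟨P, hP⟩ := pT.exists_le_sylow
  obtain ⟨Q, hQ⟩ := pE.exists_le_sylow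
  obtain ⟨h, hh⟩ := MulAction.exists_smul_eq H Q P
  refine ⟨(h : G), h.2, ?_⟩
  let P' : Subgroup G := (P : Subgroup H).map H.subtype
  have cP' : Nat.card P' = Nat.card P :=
    Nat.card_congr ((P : Subgroup H).equivMapOfInjective _ H.subtype_injective).symm.toEquiv
  obtain ⟨k, hk⟩ := IsPGroup.iff_card.1 P.2
  have hk' : Nat.card P = p ^ k := hk
  have hkn : k ≤ n := by
    by_contra hcon
    apply hn
    have h1 : Nat.card P ∣ Nat.card H := Subgroup.card_subgroup_dvd_card _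
    rw [hk'] at h1
    exact (pow_dvd_pow p (by omega)).trans h1
  have hTP : T ≤ P' := by
    intro x hx
    exact ⟨⟨x, hT hx⟩, hP (by rw [mem_subgroupOf]; exact hx), rfl⟩
  set E' : Subgroup G := E.map (MulAut.conj (h : G)).toMonoidHom with hE'
  have hEP : E' ≤ P' := by
    rintro _ ⟨x, hx, rfl⟩
    have h1 : (⟨x, hE hx⟩ : H) ∈ Q := hQ (by rw [mem_subgroupOf]; exact hx)
    have h2 : h * ⟨x, hE hx⟩ * h⁻¹ ∈ P := by
      rw [← hh]
      exact ⟨_, h1, rfl⟩
    exact ⟨_, h2, rfl⟩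
  have cE' : Nat.card E' = p ^ e := by
    rw [hE', ← cE]
    exact Nat.card_congr (E.equivMapOfInjective _ (MulAut.conj (h : G)).injective).symm.toEquiv
  have hpp : 0 < p := hp.out.pos
  have e1 : (p ^ t) * T.relIndex P' = p ^ k := by
    have := Subgroup.relIndex_mul_relIndex ⊥ T P' bot_le hTP
    rw [relIndex_bot_left, relIndex_bot_left, cT, cP'] at this
    rw [this]; exact hk
  have e2 : Nat.card (T ⊓ E' : Subgroup G) * T.relIndex E' = p ^ e := by
    have := Subgroup.relIndex_mul_relIndex ⊥ (T ⊓ E') E' bot_le inf_le_right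
    rwa [relIndex_bot_left, relIndex_bot_left, cE', inf_relIndex_right] at this
  have hne : T.relIndex P' ≠ 0 := by
    intro h0
    rw [h0, mul_zero] at e1
    exact absurd e1.symm (by positivity)
  have e3 : T.relIndex E' ≤ T.relIndex P' := relIndex_le_of_le_right hEP hne
  have e4 : p ^ e * p ^ t ≤ Nat.card (T ⊓ E' : Subgroup G) * p ^ k := by
    calc p ^ e * p ^ t = Nat.card (T ⊓ E' : Subgroup G) * T.relIndex E' * p ^ t := by rw [e2]
      _ ≤ Nat.card (T ⊓ E' : Subgroup G) * T.relIndex P' * p ^ t := by gcongr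
      _ = Nat.card (T ⊓ E' : Subgroup G) * p ^ k := by rw [← e1]; ring
  have e5 : p ^ m * p ^ n ≤ Nat.card (T ⊓ E' : Subgroup G) * p ^ n := by
    calc p ^ m * p ^ n = p ^ e * p ^ t := by rw [← pow_add, ← pow_add]; congr 1; omega
      _ ≤ Nat.card (T ⊓ E' : Subgroup G) * p ^ k := e4
      _ ≤ Nat.card (T ⊓ E' : Subgroup G) * p ^ n := by
          gcongr
  exact Nat.le_of_mul_le_mul_right e5 (by positivity)

/-! ### Linear maps of order 7 -/

theorem fix_modEq {α : Type u} [Finite α] (f : α → α) {p n : ℕ} [Fact p.Prime] (hf : f^[p ^ n] = id) :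
    Nat.card α ≡ Nat.card {x // f x = x} [MOD p] := by
  classical
  have := Fintype.ofFinite α
  have h := Equiv.Perm.card_fixedPoints_modEq (f := (f : Function.End α)) (p := p) (n := n) hf
  rw [Nat.card_eq_fintype_card, Nat.card_eq_fintype_card]
  have e : Fintype.card (Function.fixedPoints f) = Fintype.card {x // f x = x} := Fintype.card_congr (Equiv.refl _)
  rw [← e]
  exact h

section

variable {W : Type u} [AddCommGroup W] [Module (ZMod 3) W] [Finite W]

/-- the fixed vectors -/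
def fx (k : W →ₗ[ZMod 3] W) : AddSubgroup W where
  carrier := {x | k x = x}
  zero_mem' := map_zero k
  add_mem' {a b} ha hb := by
    show k (a + b) = a + b
    rw [map_add, show k a = a from ha, show k b = b from hb]
  neg_mem' {a} ha := by
    show k (-a) = -a
    rw [map_neg, show k a = a from ha]

omit [Finite W] in
theorem mem_fx {k : W →ₗ[ZMod 3] W} {x : W} : x ∈ fx k ↔ k x = x := Iff.rfl

theorem card_fx (hW : Nat.card W = 3 ^ 6) {k : W →ₗ[ZMod 3] W} (hk : k ≠ LinearMap.id)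
    (h7 : Nat.card (fx k) ≡ 1 [MOD 7]) : Nat.card (fx k) = 1 := by
  have h1 : Nat.card (fx k) ∣ 3 ^ 6 := hW ▸ AddSubgroup.card_addSubgroup_dvd_card (fx k)
  obtain ⟨d, hd, he⟩ := (Nat.dvd_prime_pow Nat.prime_three).1 h1
  have h6 : d ≠ 6 := by
    rintro rfl
    apply hk
    have h2 : fx k = ⊤ := AddSubgroup.eq_top_of_card_eq _ (by rw [he, hW])
    ext x
    have h3 : x ∈ fx k := by rw [h2]; trivial
    exact h3
  rw [he] at h7 ⊢
  unfold Nat.ModEq at h7
  interval_cases d
  all_goals first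
    | rfl
    | (exfalso; revert h7; norm_num; done)
    | exact absurd rfl h6

theorem no_seven (hW : Nat.card W = 3 ^ 6) {k m : W →ₗ[ZMod 3] W} (hk7 : (⇑k)^[7 ^ 1] = id) (hk : k ≠ LinearMap.id)
    {b : ℕ} (hm3 : (⇑m)^[3 ^ b] = id) (hm : m ≠ LinearMap.id) (hc : ∀ u, k (m u) = m (k u)) : False := by
  have : Fact (Nat.Prime 7) := ⟨by norm_num⟩
  have : Fact (Nat.Prime 3) := ⟨by norm_num⟩
  have h1 : Nat.card (fx k) = 1 := by
    apply card_fx hW hk
    have h := fix_modEq (⇑k) hk7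
    rw [hW] at h
    exact (h.symm.trans (by decide))
  have h0 : ∀ x, k x = x → x = 0 := by
    intro x hx
    have hs : Subsingleton (fx k) := (Nat.card_eq_one_iff_unique.1 h1).1
    exact congrArg Subtype.val (Subsingleton.elim (⟨x, hx⟩ : fx k) 0)
  -- the restriction to the fixed vectors of `m`
  have hr : ∀ x : fx m, k (x : W) ∈ fx m := by
    intro x
    rw [mem_fx, ← hc, mem_fx.1 x.2]
  let f : fx m → fx m := fun x => ⟨k (x : W), hr x⟩
  have hf : ∀ (n : ℕ) (x : fx m), ((f^[n] x : fx m) : W) = (⇑k)^[n] (x : W) := by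
    intro n
    induction n with
    | zero => intro x; rfl
    | succ n ih => intro x; rw [Function.iterate_succ_apply, Function.iterate_succ_apply, ih]
  have hf7 : f^[7 ^ 1] = id := by
    funext x
    apply Subtype.ext
    rw [hf, hk7]
    rfl
  have h2 : Nat.card (fx m) = 1 := by
    apply card_fx hW hm
    refine (fix_modEq f hf7).trans ?_
    have h3 : Nat.card {x : fx m // f x = x} = 1 := by
      rw [Nat.card_eq_one_iff_unique]
      refine ⟨⟨fun x y => ?_⟩, ⟨⟨0, ?_⟩⟩⟩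
      · have hx : ((x : fx m) : W) = 0 := h0 _ (congrArg Subtype.val x.2)
        have hy : ((y : fx m) : W) = 0 := h0 _ (congrArg Subtype.val y.2)
        exact Subtype.ext (Subtype.ext (hx.trans hy.symm))
      · exact Subtype.ext (map_zero k)
    rw [h3]
  have h4 := fix_modEq (⇑m) hm3
  have h5 : Nat.card {x // m x = x} = 1 := h2
  rw [h5, hW] at h4
  exact absurd h4 (by decide)

end

/-! ### The group `N(⟨x2⟩)` -/

open Cfsg Cfsg.Agent.Fischer.Fi24Final
open Cfsg.Agent.H841.Sev (NY A N O6 I6 Ps Ps_eq_one a6 a6l a6_one a6_mul a6_ext mem_NY NY_le_N A_le_NY card_A A_comm A_cube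
  mem_A_of_comm mem_N_iff x2_vec vec_eq_one vec_mem tv_mem_N2 mem_N2 tv3 tv5 quot_iso_NY normal_A_NY x2_cube)
open Cfsg.Agent.LThreeFi24.SNine (x2)
open Cfsg.Agent.R08.FiTwentyFour (L mem_commutator_iff sgn_L mul_mem_commutator)
open Cfsg.Spor (Fi24)

local notation "gn" => Cfsg.Agent.Fischer.Fi24Class.gen

theorem finite24 : Finite Fi24 := Cfsg.Agent.R08.FiTwentyFour.finite_Fi24

theorem card_O6 : Nat.card O6 = 26127360 := by
  have h := Cfsg.Agent.S0288.result (F := ZMod 3) (q := 3) (ZMod.card 3) 3 (by norm_num) 0 1 (by decide)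
  have e : Nat.card (Cfsg.isometryGroup (ZMod 3) (Cfsg.quadFormMinus (3 - 1) (ZMod 3) 0 1)) = 26127360 := by
    rw [h]
    norm_num [Finset.prod_range_succ, Finset.prod_Icc_succ_top]
  exact e

theorem card_NY : Nat.card NY = 3 ^ 7 * 26127360 := by
  have hfin := finite24
  have := normal_A_NY
  obtain ⟨e⟩ := quot_iso_NY normal_A_NY
  rw [Subgroup.card_eq_card_quotient_mul_card_subgroup (A.subgroupOf NY), Nat.card_congr e.toEquiv, card_O6,
    Nat.card_congr (subgroupOfEquivOfLe A_le_NY).toEquiv, card_A, mul_comm]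

theorem x2_ne : x2 ≠ 1 := by
  rw [x2_vec]
  intro h
  have := vec_eq_one h
  exact absurd this (by decide)

/-- the two transpositions -/
theorem cl : Commute (gn .l) x2 := by
  have h := (mem_N2.1 (tv_mem_N2 (j := 3) (by decide))).2
  rw [tv3] at h
  exact h

theorem ca : Commute (gn .a) x2 := by
  have h := (mem_N2.1 (tv_mem_N2 (j := 5) (by decide))).2
  rw [tv5] at h
  exact h

/-- `C(x2) ∩ Fi24'` -/
def C' : Subgroup Fi24 := centralizer {x2} ⊓ commutator Fi24

theorem C'_le : C' ≤ NY := fun _ hg => mem_NY.2 (Or.inl (mul_inv_eq_iff_eq_mul.2 (mem_centralizer_singleton_iff.1 hg.1)))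

theorem card_C' : Nat.card C' = 2 ^ 8 * 3 ^ 13 * 5 * 7 := by
  have hfin := finite24
  have hle : Subgroup.centralizer ({x2} : Set Fi24) ≤ NY := fun g hg =>
    mem_NY.2 (Or.inl (mul_inv_eq_iff_eq_mul.2 (mem_centralizer_singleton_iff.1 hg)))
  have hmem : ∀ g : NY, g ∈ (Subgroup.centralizer ({x2} : Set Fi24)).subgroupOf NY ↔ (g : Fi24) * x2 * (g : Fi24)⁻¹ = x2 := by
    intro g
    rw [mem_subgroupOf, mem_centralizer_singleton_iff, mul_inv_eq_iff_eq_mul]
  have hidx : ((Subgroup.centralizer ({x2} : Set Fi24)).subgroupOf NY).index = 2 := by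
    obtain ⟨j, -, hjj, hj⟩ := Cfsg.Agent.H49.Four.ThreeInv.three_inv24 x2_cube
    have hji : j⁻¹ = j := inv_eq_of_mul_eq_one_left hjj
    have hn2 : j * x2 * j⁻¹ = x2⁻¹ := by rw [hji, hj]
    have hx : x2⁻¹ ≠ x2 := by
      intro h
      have h1 : x2 * x2 = 1 := by
        nth_rewrite 1 [← h]
        exact inv_mul_cancel x2
      have h5 := x2_cube
      rw [pow_succ, pow_two, h1, one_mul] at h5
      exact x2_ne h5
    rw [Subgroup.index_eq_two_iff]
    refine ⟨⟨j, mem_NY.2 (Or.inr hn2)⟩, fun b => ?_⟩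
    rw [hmem, hmem]
    have e1 : ((b * ⟨j, mem_NY.2 (Or.inr hn2)⟩ : NY) : Fi24) * x2 * ((b * ⟨j, mem_NY.2 (Or.inr hn2)⟩ : NY) : Fi24)⁻¹ =
        (b : Fi24) * x2⁻¹ * (b : Fi24)⁻¹ := by
      calc ((b * ⟨j, mem_NY.2 (Or.inr hn2)⟩ : NY) : Fi24) * x2 * ((b * ⟨j, mem_NY.2 (Or.inr hn2)⟩ : NY) : Fi24)⁻¹
          = ((b : Fi24) * j) * x2 * ((b : Fi24) * j)⁻¹ := rfl
        _ = (b : Fi24) * (j * x2 * j⁻¹) * (b : Fi24)⁻¹ := by group
        _ = _ := by rw [hn2]
    rw [e1]
    have e2 : (b : Fi24) * x2⁻¹ * (b : Fi24)⁻¹ = ((b : Fi24) * x2 * (b : Fi24)⁻¹)⁻¹ := by group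
    rw [e2]
    rcases mem_NY.1 b.2 with h | h
    · rw [h]
      exact Or.inr ⟨rfl, hx⟩
    · rw [h, inv_inv]
      exact Or.inl ⟨rfl, hx⟩
  have h1 := Subgroup.card_mul_index ((Subgroup.centralizer ({x2} : Set Fi24)).subgroupOf NY)
  rw [hidx, card_NY, Nat.card_congr (subgroupOfEquivOfLe hle).toEquiv] at h1
  have hle2 : C' ≤ Subgroup.centralizer ({x2} : Set Fi24) := inf_le_left
  have hidx2 : (C'.subgroupOf (Subgroup.centralizer ({x2} : Set Fi24))).index = 2 := by
    have hm : ∀ g : Subgroup.centralizer ({x2} : Set Fi24), g ∈ C'.subgroupOf (Subgroup.centralizer ({x2} : Set Fi24)) ↔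
        sgn (g : Fi24) = 1 := by
      intro g
      rw [mem_subgroupOf, ← mem_commutator_iff]
      exact ⟨fun h => h.2, fun h => ⟨g.2, h⟩⟩
    rw [Subgroup.index_eq_two_iff]
    refine ⟨⟨gn .l, mem_centralizer_singleton_iff.2 cl.eq⟩, fun b => ?_⟩
    rw [hm, hm]
    have e1 : sgn ((b * ⟨gn .l, mem_centralizer_singleton_iff.2 cl.eq⟩ : Subgroup.centralizer ({x2} : Set Fi24)) : Fi24) =
        -sgn (b : Fi24) := by
      show sgn ((b : Fi24) * gn .l) = _
      rw [map_mul, sgn_L (Cfsg.Agent.R08.FiTwentyFour.gen_mem_L .l), mul_neg, mul_one]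
    rw [e1]
    rcases Int.units_eq_one_or (sgn (b : Fi24)) with h | h
    · rw [h]
      exact Or.inr ⟨rfl, by decide⟩
    · rw [h]
      exact Or.inl ⟨rfl, by decide⟩
  have h2 := Subgroup.card_mul_index (C'.subgroupOf (Subgroup.centralizer ({x2} : Set Fi24)))
  rw [hidx2, Nat.card_congr (subgroupOfEquivOfLe hle2).toEquiv] at h2
  omega

/-! ### The bound -/

theorem pow_iter (m : O6) (n : ℕ) : (⇑(a6l m))^[n] = ⇑(a6l (m ^ n)) := by
  induction n with
  | zero =>
    funext u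
    show u = a6 (m ^ 0) u
    rw [pow_zero, a6_one]
  | succ n ih =>
    funext u
    rw [Function.iterate_succ_apply, ih, pow_succ]
    exact (a6_mul _ _ _).symm

theorem a6l_id {m : O6} (h : a6l m = LinearMap.id) : m = 1 := by
  apply a6_ext
  intro v
  rw [a6_one]
  exact LinearMap.congr_fun h v

theorem card_W : Nat.card (I6 → ZMod 3) = 3 ^ 6 := by
  rw [Nat.card_eq_fintype_card, Fintype.card_fun, ZMod.card]
  rfl

theorem bound_x2 {g : Spor.Fi24'} {b : ℕ} (hb : 2 ≤ b) (hg : orderOf g = 3 ^ b) (hp : (g : Fi24) ^ 3 ^ (b - 1) = x2)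
    (hD : ∀ d ∈ L, ¬ Commute (g : Fi24) d) : Nat.card (centralizer ({g} : Set Spor.Fi24')) ≤ 68024448 := by
  have hfin := finite24
  have f2 : Fact (Nat.Prime 2) := ⟨Nat.prime_two⟩
  have f3 : Fact (Nat.Prime 3) := ⟨Nat.prime_three⟩
  have f7 : Fact (Nat.Prime 7) := ⟨by norm_num⟩
  let K : Subgroup Fi24 := centralizer ({(g : Fi24)} : Set Fi24) ⊓ commutator Fi24
  have cK : Nat.card (centralizer ({g} : Set Spor.Fi24')) = Nat.card K := by
    have e1 : K = (centralizer ({g} : Set Spor.Fi24')).map (commutator Fi24).subtype := by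
      ext x
      constructor
      · rintro ⟨h1, h2⟩
        refine ⟨⟨x, h2⟩, ?_, rfl⟩
        have h3 : x * (g : Fi24) = g * x := mem_centralizer_singleton_iff.1 h1
        exact mem_centralizer_singleton_iff.2 (Subtype.ext h3)
      · rintro ⟨x, hx, rfl⟩
        refine ⟨?_, x.2⟩
        have hx' : x * g = g * x := mem_centralizer_singleton_iff.1 hx
        exact mem_centralizer_singleton_iff.2 (congrArg Subtype.val hx')
    rw [e1]
    exact Nat.card_congr ((centralizer ({g} : Set Spor.Fi24')).equivMapOfInjective _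
      (Subgroup.subtype_injective _)).toEquiv
  have hKg : ∀ x ∈ K, Commute x (g : Fi24) := fun x hx => mem_centralizer_singleton_iff.1 hx.1
  have hKC : K ≤ C' := by
    intro x hx
    refine ⟨mem_centralizer_singleton_iff.2 ?_, hx.2⟩
    rw [← hp]
    exact ((hKg x hx).pow_right _).eq
  have hgC : (g : Fi24) ∈ C' := hKC ⟨mem_centralizer_singleton_iff.2 rfl, g.2⟩
  have hgY : (g : Fi24) ∈ NY := C'_le hgC
  have ho : orderOf (g : Fi24) = 3 ^ b := by rw [Subgroup.orderOf_coe, hg]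
  have hodd : Odd (orderOf (g : Fi24)) := by rw [ho]; exact Odd.pow (by decide)
  have hgA : (g : Fi24) ∉ A := by
    intro h
    have h1 := A_cube h
    have h2 : orderOf (g : Fi24) ∣ 3 := orderOf_dvd_of_pow_eq_one h1
    rw [ho] at h2
    have h3 := Nat.le_of_dvd (by norm_num) h2
    have h4 : 3 ^ 2 ≤ 3 ^ b := Nat.pow_le_pow_right (by norm_num) hb
    omega
  -- the primes
  have n5 : ¬ 5 ∣ Nat.card K := by
    rw [← cK]
    apply Cfsg.Agent.H597.OreFi.NotFive.not_five _ hD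
    rw [hg]
    intro h
    exact absurd ((Nat.prime_dvd_prime_iff_eq (by norm_num) (by norm_num)).1 ((by norm_num : Nat.Prime 5).dvd_of_dvd_pow h))
      (by norm_num)
  have n7 : ¬ 7 ∣ Nat.card K := by
    intro h
    obtain ⟨x, hx⟩ := exists_prime_orderOf_dvd_card' 7 h
    have hxY : (x : Fi24) ∈ NY := C'_le (hKC x.2)
    have hx7 : (x : Fi24) ^ 7 = 1 := by
      have : x ^ 7 = 1 := by rw [← hx]; exact pow_orderOf_eq_one x
      exact congrArg Subtype.val this
    have hx1 : (x : Fi24) ≠ 1 := by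
      intro h
      have : x = 1 := Subtype.ext h
      rw [this, orderOf_one] at hx
      omega
    have hxA : (x : Fi24) ∉ A := by
      intro h
      have h1 := A_cube h
      apply hx1
      calc (x : Fi24) = (x : Fi24) ^ 7 * ((x : Fi24) ^ 3)⁻¹ * ((x : Fi24) ^ 3)⁻¹ := by group
        _ = 1 := by rw [hx7, h1]; simp
    let k : O6 := Ps ⟨x, hxY⟩
    let m : O6 := Ps ⟨g, hgY⟩
    refine no_seven card_W (k := a6l k) (m := a6l m) (b := b) ?_ ?_ ?_ ?_ ?_
    · rw [pow_iter]
      have : k ^ 7 ^ 1 = 1 := by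
        rw [pow_one, ← map_pow]
        have e : (⟨x, hxY⟩ : NY) ^ 7 = 1 := Subtype.ext hx7
        rw [e, map_one]
      rw [this]
      funext u
      exact a6_one u
    · intro h
      exact hxA (Ps_eq_one.1 (a6l_id h))
    · rw [pow_iter]
      have : m ^ 3 ^ b = 1 := by
        rw [← map_pow]
        have e : (⟨g, hgY⟩ : NY) ^ 3 ^ b = 1 := Subtype.ext (by
          show (g : Fi24) ^ 3 ^ b = 1
          rw [← ho]; exact pow_orderOf_eq_one _)
        rw [e, map_one]
      rw [this]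
      funext u
      exact a6_one u
    · intro h
      exact hgA (Ps_eq_one.1 (a6l_id h))
    · intro u
      have e : k * m = m * k := by
        rw [← map_mul, ← map_mul]
        congr 1
        exact Subtype.ext (hKg x x.2).eq
      show a6 k (a6 m u) = a6 m (a6 k u)
      rw [← a6_mul, ← a6_mul, e]
  have n2 : ¬ 2 ^ 8 ∣ Nat.card K := by
    intro h
    obtain ⟨T₀, hT₀⟩ := Sylow.exists_subgroup_card_pow_prime 2 h
    let T : Subgroup Fi24 := T₀.map K.subtype
    have cT : Nat.card T = 2 ^ 8 := by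
      rw [← hT₀]
      exact Nat.card_congr (T₀.equivMapOfInjective _ K.subtype_injective).symm.toEquiv
    have hTK : T ≤ K := by rintro _ ⟨x, -, rfl⟩; exact x.2
    have lL := Cfsg.Agent.R08.FiTwentyFour.gen_mem_L .l
    have aL := Cfsg.Agent.R08.FiTwentyFour.gen_mem_L .a
    have hla : Commute (gn .l) (gn .a) := (Cfsg.Agent.Fischer.Fi24Class.comm_l .a (by decide)).symm
    have hne : gn .l ≠ gn .a := (Cfsg.Agent.Fischer.Fi24Class.a_ne_l Cfsg.Agent.R08.FiTwentyFour.facts.card_ne).symm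
    have hla2 : (gn .l * gn .a) ^ 2 = (1 : Fi24) := by
      rw [pow_two, show gn .l * gn .a * (gn .l * gn .a) = gn .l * (gn .a * gn .l) * gn .a by group, hla.symm.eq,
        show gn .l * (gn .l * gn .a) * gn .a = (gn .l * gn .l) * (gn .a * gn .a) by group,
        Cfsg.Agent.R08.FiTwentyFour.sq lL, Cfsg.Agent.R08.FiTwentyFour.sq aL, one_mul]
    have hla1 : gn .l * gn .a ≠ (1 : Fi24) := by
      intro h
      apply hne
      exact mul_right_cancel (h.trans (Cfsg.Agent.R08.FiTwentyFour.sq aL).symm)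
    let E : Subgroup Fi24 := zpowers (gn .l * gn .a)
    have cE : Nat.card E = 2 ^ 1 := by rw [Nat.card_zpowers, orderOf_eq_prime hla2 hla1, pow_one]
    have hE : E ≤ C' := by
      rw [zpowers_le]
      exact ⟨mem_centralizer_singleton_iff.2 (cl.mul_left ca).eq, mul_mem_commutator lL aL⟩
    have hn : ¬ 2 ^ (8 + 1) ∣ Nat.card C' := by rw [card_C']; norm_num
    obtain ⟨y, -, hy⟩ := exists_inter (hTK.trans hKC) hE cT cE hn (m := 1) (by norm_num)
    have hnt : Nontrivial (T ⊓ E.map (MulAut.conj y).toMonoidHom : Subgroup Fi24) := by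
      rw [← Finite.one_lt_card_iff_nontrivial]
      omega
    obtain ⟨w, hw⟩ := exists_ne (1 : (T ⊓ E.map (MulAut.conj y).toMonoidHom : Subgroup Fi24))
    obtain ⟨hwT, v, hv, hvw⟩ := w.2
    have hv2 : v = 1 ∨ v = gn .l * gn .a := by
      obtain ⟨n, rfl⟩ := mem_zpowers_iff.1 hv
      rcases Int.even_or_odd' n with ⟨c, rfl | rfl⟩
      · left
        rw [zpow_mul, show (gn .l * gn .a : Fi24) ^ (2 : ℤ) = (gn .l * gn .a) ^ 2 from rfl, hla2, one_zpow]
      · right
        rw [zpow_add, zpow_mul, show (gn .l * gn .a : Fi24) ^ (2 : ℤ) = (gn .l * gn .a) ^ 2 from rfl, hla2, one_zpow,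
          one_mul, zpow_one]
    rcases hv2 with rfl | rfl
    · apply hw
      apply Subtype.ext
      rw [← hvw]
      exact map_one _
    · have h1 : (w : Fi24) = (y * gn .l * y⁻¹) * (y * gn .a * y⁻¹) := by
        rw [← hvw]
        show y * (gn .l * gn .a) * y⁻¹ = _
        group
      have h2 : Commute (g : Fi24) ((y * gn .l * y⁻¹) * (y * gn .a * y⁻¹)) := by
        rw [← h1]; exact (hKg _ (hTK hwT)).symm
      refine hD _ (Cfsg.Agent.R08.FiTwentyFour.conj lL y) (NineA.comm_all Cfsg.Agent.R08.TetFi24A.tr hodd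
        (Cfsg.Agent.R08.FiTwentyFour.conj lL y) (Cfsg.Agent.R08.FiTwentyFour.conj aL y) ?_ ?_ h2)
      · intro h
        exact hne (mul_left_cancel (mul_right_cancel h))
      · show y * gn .l * y⁻¹ * (y * gn .a * y⁻¹) = y * gn .a * y⁻¹ * (y * gn .l * y⁻¹)
        calc y * gn .l * y⁻¹ * (y * gn .a * y⁻¹) = y * (gn .l * gn .a) * y⁻¹ := by group
          _ = y * (gn .a * gn .l) * y⁻¹ := by rw [hla.eq]
          _ = _ := by group
  have n3 : ¬ 3 ^ 13 ∣ Nat.card K := by
    intro h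
    obtain ⟨T₀, hT₀⟩ := Sylow.exists_subgroup_card_pow_prime 3 h
    let T : Subgroup Fi24 := T₀.map K.subtype
    have cT : Nat.card T = 3 ^ 13 := by
      rw [← hT₀]
      exact Nat.card_congr (T₀.equivMapOfInjective _ K.subtype_injective).symm.toEquiv
    have hTK : T ≤ K := by rintro _ ⟨x, -, rfl⟩; exact x.2
    have hAC : A ≤ C' := by
      intro a ha
      refine ⟨mem_centralizer_singleton_iff.2 ?_, mem_commutator_iff.2 ?_⟩
      · rw [x2_vec]; exact (A_comm ha (vec_mem _)).eq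
      · have h1 : sgn a ^ 3 = 1 := by rw [← map_pow, A_cube ha, map_one]
        rcases Int.units_eq_one_or (sgn a) with h | h
        · exact h
        · rw [h] at h1
          exact absurd h1 (by decide)
    have hn : ¬ 3 ^ (13 + 1) ∣ Nat.card C' := by rw [card_C']; norm_num
    obtain ⟨y, hyC, hy⟩ := exists_inter (hTK.trans hKC) hAC cT card_A hn (m := 7) (by norm_num)
    have hAy : A.map (MulAut.conj y).toMonoidHom ≤ A := by
      rintro _ ⟨a, ha, rfl⟩
      exact mem_N_iff.1 (NY_le_N (C'_le hyC)) a ha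
    have h1 : (T ⊓ A.map (MulAut.conj y).toMonoidHom : Subgroup Fi24) ≤ A := inf_le_right.trans hAy
    have h2 : (T ⊓ A.map (MulAut.conj y).toMonoidHom : Subgroup Fi24) = A := by
      apply Subgroup.eq_of_le_of_card_ge h1
      rw [card_A]
      exact hy
    have h3 : A ≤ T := by rw [← h2]; exact inf_le_left
    exact hgA (mem_A_of_comm fun a ha => (hKg a (hTK (h3 ha))).symm)
  have hdvd : Nat.card K ∣ 2 ^ 8 * 3 ^ 13 * 5 * 7 := by
    rw [← card_C']
    exact Subgroup.card_dvd_of_le hKC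
  rw [cK]
  have d1 : Nat.card K ∣ 2 ^ 8 * 3 ^ 13 * 5 :=
    (Nat.Coprime.dvd_of_dvd_mul_right ((Nat.Prime.coprime_iff_not_dvd (by norm_num)).2 n7).symm hdvd)
  have d2 : Nat.card K ∣ 2 ^ 8 * 3 ^ 13 :=
    (Nat.Coprime.dvd_of_dvd_mul_right ((Nat.Prime.coprime_iff_not_dvd (by norm_num)).2 n5).symm d1)
  obtain ⟨x, y, hx, hy, hxy⟩ := (Nat.dvd_mul).1 d2
  obtain ⟨i, hi, rfl⟩ := (Nat.dvd_prime_pow Nat.prime_two).1 hx
  obtain ⟨j, hj, rfl⟩ := (Nat.dvd_prime_pow Nat.prime_three).1 hy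
  have hi8 : i ≤ 7 := by
    by_contra hcon
    have : i = 8 := by omega
    subst this
    exact n2 (by rw [← hxy]; exact dvd_mul_right _ _)
  have hj13 : j ≤ 12 := by
    by_contra hcon
    have : j = 13 := by omega
    subst this
    exact n3 (by rw [← hxy]; exact dvd_mul_left _ _)
  calc Nat.card K = 2 ^ i * 3 ^ j := hxy.symm
    _ ≤ 2 ^ 7 * 3 ^ 12 := Nat.mul_le_mul (Nat.pow_le_pow_right (by norm_num) hi8) (Nat.pow_le_pow_right (by norm_num) hj13)
    _ = 68024448 := by norm_num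

/-- **width six** -/
theorem wd_one : Nine.Wd 1 := by
  apply Nine.Wd.of_X
  intro g b hb hg hp hD
  obtain ⟨r, hr⟩ : ∃ r : Fi24, r = Cfsg.Agent.Fischer.Fi24Rep.word Cfsg.Agent.H841.Sev.ur := ⟨_, rfl⟩
  have hx : r * (g : Fi24) ^ 3 ^ (b - 1) * r⁻¹ = x2 := by
    rw [hp, hr]
    exact Cfsg.Agent.H841.Sev.x2_conj
  rw [← Nine.card_cent_equiv (Nine.cj r) g]
  refine (bound_x2 hb (by rw [MulEquiv.orderOf_eq, hg]) ?_ ?_).trans (by norm_num)
  · rw [Nine.coe_cj, conj_pow]
    exact hx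
  · intro d hd hc
    rw [Nine.coe_cj] at hc
    apply hD (r⁻¹ * d * r)
    · have := Cfsg.Agent.R08.FiTwentyFour.conj hd r⁻¹
      rwa [inv_inv] at this
    · show (g : Fi24) * (r⁻¹ * d * r) = r⁻¹ * d * r * (g : Fi24)
      calc (g : Fi24) * (r⁻¹ * d * r) = r⁻¹ * ((r * (g : Fi24) * r⁻¹) * d) * r := by group
        _ = r⁻¹ * (d * (r * (g : Fi24) * r⁻¹)) * r := by rw [hc.eq]
        _ = r⁻¹ * d * r * (g : Fi24) := by group

end Cfsg.Agent.H48.OreFi.WOne
end

-- part: H48/OreFi/TwoPart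
section
/-!
# `Fi24`: the 2-part of the centralizer of an element of odd order over `x3` (helper48, for helper597)

* `exists_inter` : two 2-subgroups of a group meet, up to conjugation, in a subgroup of the order given by Sylow;
* `two_part` : `g` of odd order commuting with `x3` and with no transposition: `2 ^ 8` does not divide the order of
  `C(g) ∩ C(x3) ∩ Fi24'`.
-/

set_option autoImplicit false
set_option maxRecDepth 100000

namespace Cfsg.Agent.H48.OreFi.TwoPart

open Subgroup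
open Cfsg.Agent.R08.TetBasic (Tr pair_unique)

universe u

theorem exists_inter {G : Type u} [Group G] [Finite G] {H T E : Subgroup G} (hT : T ≤ H) (hE : E ≤ H)
    {t e n m : ℕ} (cT : Nat.card T = 2 ^ t) (cE : Nat.card E = 2 ^ e) (hn : ¬ 2 ^ (n + 1) ∣ Nat.card H)
    (hm : n + m = t + e) :
    ∃ h : G, 2 ^ m ≤ Nat.card (T ⊓ E.map (MulAut.conj h).toMonoidHom : Subgroup G) := by
  have pT : IsPGroup 2 (T.subgroupOf H) := by
    refine IsPGroup.of_card (n := t) ?_
    rw [Nat.card_congr (subgroupOfEquivOfLe hT).toEquiv, cT]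
  have pE : IsPGroup 2 (E.subgroupOf H) := by
    refine IsPGroup.of_card (n := e) ?_
    rw [Nat.card_congr (subgroupOfEquivOfLe hE).toEquiv, cE]
  obtain ⟨P, hP⟩ := pT.exists_le_sylow
  obtain ⟨Q, hQ⟩ := pE.exists_le_sylow
  obtain ⟨h, hh⟩ := MulAction.exists_smul_eq H Q P
  refine ⟨(h : G), ?_⟩
  let P' : Subgroup G := (P : Subgroup H).map H.subtype
  have cP' : Nat.card P' = Nat.card P :=
    Nat.card_congr ((P : Subgroup H).equivMapOfInjective _ H.subtype_injective).symm.toEquiv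
  obtain ⟨k, hk⟩ := IsPGroup.iff_card.1 P.2
  have hkn : k ≤ n := by
    by_contra hcon
    apply hn
    have h1 : Nat.card P ∣ Nat.card H := Subgroup.card_subgroup_dvd_card _
    have h2 : Nat.card P = 2 ^ k := hk
    rw [h2] at h1
    exact (pow_dvd_pow 2 (by omega)).trans h1
  have hTP : T ≤ P' := by
    intro x hx
    exact ⟨⟨x, hT hx⟩, hP (by rw [mem_subgroupOf]; exact hx), rfl⟩
  set E' : Subgroup G := E.map (MulAut.conj (h : G)).toMonoidHom with hE'
  have hEP : E' ≤ P' := by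
    rintro _ ⟨x, hx, rfl⟩
    have h1 : (⟨x, hE hx⟩ : H) ∈ Q := hQ (by rw [mem_subgroupOf]; exact hx)
    have h2 : h * ⟨x, hE hx⟩ * h⁻¹ ∈ P := by
      rw [← hh]
      exact ⟨_, h1, rfl⟩
    exact ⟨_, h2, rfl⟩
  have cE' : Nat.card E' = 2 ^ e := by
    rw [hE', ← cE]
    exact Nat.card_congr (E.equivMapOfInjective _ (MulAut.conj (h : G)).injective).symm.toEquiv
  have e1 : (2 ^ t) * T.relIndex P' = 2 ^ k := by
    have := Subgroup.relIndex_mul_relIndex ⊥ T P' bot_le hTP
    rw [relIndex_bot_left, relIndex_bot_left, cT, cP'] at this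
    rw [this]; exact hk
  have e2 : Nat.card (T ⊓ E' : Subgroup G) * T.relIndex E' = 2 ^ e := by
    have := Subgroup.relIndex_mul_relIndex ⊥ (T ⊓ E') E' bot_le inf_le_right
    rwa [relIndex_bot_left, relIndex_bot_left, cE', inf_relIndex_right] at this
  have hne : T.relIndex P' ≠ 0 := by
    intro h0
    rw [h0, mul_zero] at e1
    exact absurd e1.symm (by positivity)
  have e3 : T.relIndex E' ≤ T.relIndex P' := relIndex_le_of_le_right hEP hne
  have e4 : 2 ^ e * 2 ^ t ≤ Nat.card (T ⊓ E' : Subgroup G) * 2 ^ k := by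
    calc 2 ^ e * 2 ^ t = Nat.card (T ⊓ E' : Subgroup G) * T.relIndex E' * 2 ^ t := by rw [e2]
      _ ≤ Nat.card (T ⊓ E' : Subgroup G) * T.relIndex P' * 2 ^ t := by gcongr
      _ = Nat.card (T ⊓ E' : Subgroup G) * 2 ^ k := by rw [← e1]; ring
  have e5 : 2 ^ m * 2 ^ n ≤ Nat.card (T ⊓ E' : Subgroup G) * 2 ^ n := by
    calc 2 ^ m * 2 ^ n = 2 ^ e * 2 ^ t := by rw [← pow_add, ← pow_add]; congr 1; omega
      _ ≤ Nat.card (T ⊓ E' : Subgroup G) * 2 ^ k := e4
      _ ≤ Nat.card (T ⊓ E' : Subgroup G) * 2 ^ n := by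
          gcongr
          norm_num
  exact Nat.le_of_mul_le_mul_right e5 (by positivity)

/-! ### The combinatorics of the even part of `2 ^ 5` -/

abbrev C2 := Multiplicative (ZMod 2)

abbrev V5 := Fin 5 → C2

def gg : C2 := Multiplicative.ofAdd 1

def ev (v : V5) : C2 := v 0 * v 1 * v 2 * v 3 * v 4

/-- the weight two vectors -/
def w2 (v : V5) : Bool := (List.finRange 5).any fun i => (List.finRange 5).any fun j =>
  decide (i < j) && decide (v = Pi.mulSingle i gg * Pi.mulSingle j gg)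

/-- the weight four vectors -/
def w4 (v : V5) : Bool := (List.finRange 5).any fun i => (List.finRange 5).any fun j =>
  (List.finRange 5).any fun k => (List.finRange 5).any fun l =>
  decide (i < j) && decide (j < k) && decide (k < l) &&
    decide (v = Pi.mulSingle i gg * Pi.mulSingle j gg * (Pi.mulSingle k gg * Pi.mulSingle l gg))

def mkV (a b c d e : C2) : V5 := ![a, b, c, d, e]

theorem eq_mkV (v : V5) : v = mkV (v 0) (v 1) (v 2) (v 3) (v 4) := by
  funext i
  fin_cases i <;> rfl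

theorem w24' : ∀ a b c d e : C2, ev (mkV a b c d e) = 1 → mkV a b c d e ≠ 1 →
    w2 (mkV a b c d e) = true ∨ w4 (mkV a b c d e) = true := by
  decide +kernel

theorem w24 (v : V5) (h : ev v = 1) (h1 : v ≠ 1) : w2 v = true ∨ w4 v = true := by
  have := w24' (v 0) (v 1) (v 2) (v 3) (v 4)
  rw [← eq_mkV] at this
  exact this h h1

def wB (v w : V5) : Bool := !(decide (ev v = 1)) || decide (v = 1) || !(decide (ev w = 1)) || decide (w = 1) ||
  decide (v = w) || w2 v || w2 w || w2 (v * w)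

theorem w_pair' : ∀ a b c d e a' b' c' d' e' : C2, wB (mkV a b c d e) (mkV a' b' c' d' e') = true := by
  decide +kernel

theorem w_pair (v w : V5) (h : ev v = 1) (h1 : v ≠ 1) (h' : ev w = 1) (h1' : w ≠ 1) (hne : v ≠ w) :
    w2 v = true ∨ w2 w = true ∨ w2 (v * w) = true := by
  have := w_pair' (v 0) (v 1) (v 2) (v 3) (v 4) (w 0) (w 1) (w 2) (w 3) (w 4)
  rw [← eq_mkV, ← eq_mkV, wB] at this
  simp only [h, h', h1, h1', hne, decide_true, decide_false, Bool.not_true, Bool.false_or, Bool.or_eq_true] at this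
  (clear * - this; tauto)

theorem w2_spec {v : V5} (h : w2 v = true) : ∃ i j : Fin 5, i ≠ j ∧ v = Pi.mulSingle i gg * Pi.mulSingle j gg := by
  rw [w2, List.any_eq_true] at h
  obtain ⟨i, -, h⟩ := h
  rw [List.any_eq_true] at h
  obtain ⟨j, -, h⟩ := h
  rw [Bool.and_eq_true, decide_eq_true_eq, decide_eq_true_eq] at h
  exact ⟨i, j, h.1.ne, h.2⟩

theorem w4_spec {v : V5} (h : w4 v = true) : ∃ i j k l : Fin 5, i ≠ j ∧ k ≠ l ∧ i ≠ k ∧ i ≠ l ∧
    v = Pi.mulSingle i gg * Pi.mulSingle j gg * (Pi.mulSingle k gg * Pi.mulSingle l gg) := by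
  rw [w4, List.any_eq_true] at h
  obtain ⟨i, -, h⟩ := h
  rw [List.any_eq_true] at h
  obtain ⟨j, -, h⟩ := h
  rw [List.any_eq_true] at h
  obtain ⟨k, -, h⟩ := h
  rw [List.any_eq_true] at h
  obtain ⟨l, -, h⟩ := h
  rw [Bool.and_eq_true, Bool.and_eq_true, Bool.and_eq_true, decide_eq_true_eq, decide_eq_true_eq, decide_eq_true_eq,
    decide_eq_true_eq] at h
  obtain ⟨⟨⟨h1, h2⟩, h3⟩, h4⟩ := h
  exact ⟨i, j, k, l, h1.ne, h3.ne, (h1.trans h2).ne, ((h1.trans h2).trans h3).ne, h4⟩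

/-! ### The group generated by five commuting transpositions -/

/-- the homomorphism of an involution -/
def hom2 {F : Type u} [Group F] (a : F) (h : a * a = 1) : C2 →* F where
  toFun x := if x = 1 then 1 else a
  map_one' := by simp
  map_mul' x y := by
    have hx : x = 1 ∨ x = gg := by revert x; decide
    have hy : y = 1 ∨ y = gg := by revert y; decide
    have e1 : gg ≠ (1 : C2) := by decide
    have e2 : gg * gg = (1 : C2) := by decide
    rcases hx with rfl | rfl <;> rcases hy with rfl | rfl <;> simp [e1, e2, h]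

theorem hom2_gg {F : Type u} [Group F] (a : F) (h : a * a = 1) : hom2 a h gg = a := by
  have e1 : gg ≠ (1 : C2) := by decide
  show (if gg = (1 : C2) then (1 : F) else a) = a
  rw [if_neg e1]

theorem hom2_comm {F : Type u} [Group F] {a b : F} (ha : a * a = 1) (hb : b * b = 1) (hab : Commute a b) (x y : C2) :
    Commute (hom2 a ha x) (hom2 b hb y) := by
  show Commute (if x = 1 then 1 else a) (if y = 1 then 1 else b)
  split_ifs
  · exact Commute.refl _
  · exact Commute.one_left _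
  · exact Commute.one_right _
  · exact hab

section

variable {F : Type u} [Group F] {L : Set F} (hL : Tr L) {d : Fin 5 → F} (dL : ∀ i, d i ∈ L)
  (dc : ∀ i j, Commute (d i) (d j))

include dc in
theorem pw_comm : Pairwise fun i j => ∀ (x y : C2), Commute (hom2 (d i) (hL.sq _ (dL i)) x) (hom2 (d j) (hL.sq _ (dL j)) y) :=
  fun i j _ x y => hom2_comm (hL.sq _ (dL i)) (hL.sq _ (dL j)) (dc i j) x y

/-- the map from `2 ^ 5` -/
noncomputable def fF : V5 →* F :=
  MonoidHom.noncommPiCoprod (fun i => hom2 (d i) (hL.sq _ (dL i)))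
    (pw_comm hL dL dc)

theorem fF_single (i : Fin 5) : fF hL dL dc (Pi.mulSingle i gg) = d i :=
  (MonoidHom.noncommPiCoprod_mulSingle (hcomm := pw_comm hL dL dc) (fun i => hom2 (d i) (hL.sq _ (dL i))) i gg).trans
    (hom2_gg _ _)

/-- one coordinate -/
def sg (i : Fin 5) (x : C2) : V5 := Pi.mulSingle i x

theorem eq_singles (v : V5) : v = sg 0 (v 0) * sg 1 (v 1) * sg 2 (v 2) * sg 3 (v 3) * sg 4 (v 4) := by
  funext i
  fin_cases i <;> simp [sg, Pi.mulSingle, Function.update]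

theorem sgn_fF {s : F →* C2} (hs : ∀ a ∈ L, s a = gg) (v : V5) : s (fF hL dL dc v) = ev v := by
  have h1 : ∀ (i : Fin 5) (x : C2), s (fF hL dL dc (sg i x)) = x := by
    intro i x
    have hx : x = 1 ∨ x = gg := by revert x; decide
    rcases hx with rfl | rfl
    · rw [sg, Pi.mulSingle_one, map_one, map_one]
    · rw [sg, fF_single, hs _ (dL i)]
  conv_lhs => rw [eq_singles v]
  rw [map_mul, map_mul, map_mul, map_mul, map_mul, map_mul, map_mul, map_mul, h1, h1, h1, h1, h1, ev]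

theorem fF_inj {s : F →* C2} (hs : ∀ a ∈ L, s a = gg) (di : Function.Injective d) :
    Function.Injective (fF hL dL dc) := by
  rw [injective_iff_map_eq_one]
  intro v hv
  by_contra h1
  have h2 : ev v = 1 := by rw [← sgn_fF hL dL dc hs v, hv, map_one]
  rcases w24 v h2 h1 with h | h
  · obtain ⟨i, j, hij, rfl⟩ := w2_spec h
    rw [map_mul, fF_single, fF_single] at hv
    apply hij
    apply di
    have h3 := hL.sq _ (dL j)
    exact mul_right_cancel (hv.trans h3.symm)
  · obtain ⟨i, j, k, l, hij, hkl, hik, hil, rfl⟩ := w4_spec h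
    rw [map_mul, map_mul, map_mul, fF_single, fF_single, fF_single, fF_single] at hv
    have h3 : (d k * d l) * (d k * d l) = 1 := by
      rw [show d k * d l * (d k * d l) = d k * (d l * d k) * d l by group, (dc l k).eq,
        show d k * (d k * d l) * d l = (d k * d k) * (d l * d l) by group, hL.sq _ (dL k), hL.sq _ (dL l), one_mul]
    have h4 : d i * d j = d k * d l := mul_right_cancel (hv.trans h3.symm)
    rcases pair_unique hL (dL i) (dL j) (dL k) (dL l) (dc i j) (fun h => hij (di h)) (dc k l) h4 with ⟨h5, -⟩ | ⟨-, h5⟩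
    · exact hik (di h5.symm)
    · exact hil (di h5.symm)

include hL in
/-- the fixed pair -/
theorem odd_pair {g a b : F} (ho : Odd (orderOf g)) (ha : a ∈ L) (hb : b ∈ L) (hab : Commute a b) (hne : a ≠ b)
    (hg : Commute g (a * b)) : Commute g a := by
  have e1 : (g * a * g⁻¹) * (g * b * g⁻¹) = a * b := by
    rw [show (g * a * g⁻¹) * (g * b * g⁻¹) = g * (a * b) * g⁻¹ by group, hg.eq]; group
  have hc : Commute (g * a * g⁻¹) (g * b * g⁻¹) := by
    show (g * a * g⁻¹) * (g * b * g⁻¹) = (g * b * g⁻¹) * (g * a * g⁻¹)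
    rw [show (g * a * g⁻¹) * (g * b * g⁻¹) = g * (a * b) * g⁻¹ by group, hab.eq]; group
  rcases pair_unique hL ha hb (hL.conj g a ha) (hL.conj g b hb) hab hne hc e1.symm with ⟨h1, -⟩ | ⟨h1, h2⟩
  · show g * a = a * g
    rw [mul_inv_eq_iff_eq_mul] at h1
    exact h1
  · have h3 : Commute (g ^ 2) a := by
      show g ^ 2 * a = a * g ^ 2
      rw [mul_inv_eq_iff_eq_mul] at h1 h2
      rw [pow_two, mul_assoc, h1, ← mul_assoc, h2, mul_assoc]
    obtain ⟨k, hk⟩ := ho
    have h4 : g = (g ^ 2) ^ (k + 1) := by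
      rw [← pow_mul, show 2 * (k + 1) = 2 * k + 1 + 1 by ring, ← hk, pow_succ, pow_orderOf_eq_one, one_mul]
    rw [h4]
    exact h3.pow_left _

include hL dL dc in
theorem two_part_gen [Finite F] {s : F →* C2} (hs : ∀ a ∈ L, s a = gg) (di : Function.Injective d) {C T : Subgroup F}
    (hC : ¬ 2 ^ 12 ∣ Nat.card C) (dC : ∀ i, d i ∈ C) (hT : T ≤ C) (cT : Nat.card T = 2 ^ 8) (sT : ∀ t ∈ T, s t = 1)
    {g : F} (ho : Odd (orderOf g)) (gT : ∀ t ∈ T, Commute g t) (hD : ∀ d ∈ L, ¬ Commute g d) : False := by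
  let E : Subgroup F := (fF hL dL dc).range
  have cE : Nat.card E = 2 ^ 5 := by
    have h1 : Nat.card E = Nat.card V5 :=
      Nat.card_congr ((MonoidHom.ofInjective (fF_inj hL dL dc hs di)).symm.toEquiv)
    rw [h1, Nat.card_fun, Nat.card_eq_fintype_card, Nat.card_eq_fintype_card]
    rfl
  have mem_one : ∀ (i : Fin 5) (x : C2), fF hL dL dc (sg i x) ∈ C := by
    intro i x
    have hx : x = 1 ∨ x = gg := by revert x; decide
    rcases hx with rfl | rfl
    · rw [sg, Pi.mulSingle_one, map_one]; exact C.one_mem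
    · rw [sg, fF_single]; exact dC i
  have hE : E ≤ C := by
    rintro _ ⟨v, rfl⟩
    rw [eq_singles v, map_mul, map_mul, map_mul, map_mul]
    exact C.mul_mem (C.mul_mem (C.mul_mem (C.mul_mem (mem_one _ _) (mem_one _ _)) (mem_one _ _)) (mem_one _ _))
      (mem_one _ _)
  obtain ⟨h, hh⟩ := exists_inter (n := 11) (m := 2) hT hE cT cE hC (by norm_num)
  let ψ : V5 →* F := (MulAut.conj h).toMonoidHom.comp (fF hL dL dc)
  have hψ : ∀ v, ψ v = h * fF hL dL dc v * h⁻¹ := fun v => rfl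
  let W : Subgroup V5 := T.comap ψ
  have hinj : Function.Injective ψ := (MulAut.conj h).injective.comp (fF_inj hL dL dc hs di)
  have hmap : W.map ψ = T ⊓ E.map (MulAut.conj h).toMonoidHom := by
    rw [Subgroup.map_comap_eq, inf_comm]
    congr 1
    show ((MulAut.conj h).toMonoidHom.comp (fF hL dL dc)).range = _
    rw [MonoidHom.range_comp]
  have cW : 4 ≤ Nat.card W := by
    have h1 : Nat.card W = Nat.card (W.map ψ) := Nat.card_congr (W.equivMapOfInjective ψ hinj).toEquiv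
    rw [h1, hmap]
    exact hh
  -- two different nontrivial members
  have hex : ∃ v ∈ W, ∃ w ∈ W, v ≠ 1 ∧ w ≠ 1 ∧ v ≠ w := by
    by_contra hcon
    push Not at hcon
    have h3 : (W : Set V5).ncard ≤ 2 := by
      by_cases hv : ∃ v ∈ W, v ≠ 1
      · obtain ⟨v, hv, hv1⟩ := hv
        have : (W : Set V5) ⊆ {1, v} := by
          intro w hw
          by_cases h1 : w = 1
          · exact Or.inl h1
          · exact Or.inr (hcon v hv w hw hv1 h1).symm
        exact (Set.ncard_le_ncard this (Set.toFinite _)).trans ((Set.ncard_insert_le _ _).trans (by simp))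
      · push Not at hv
        have : (W : Set V5) ⊆ {1} := fun w hw => hv w hw
        exact (Set.ncard_le_ncard this (Set.toFinite _)).trans (by simp)
    have h4 : (W : Set V5).ncard = Nat.card W := rfl
    omega
  have hev : ∀ v ∈ W, ev v = 1 := by
    intro v hv
    have h1 := sT _ hv
    rw [hψ, map_mul, map_mul, mul_comm (s h), mul_assoc, ← map_mul, mul_inv_cancel, map_one, mul_one,
      sgn_fF hL dL dc hs v] at h1
    exact h1
  have key : ∀ v ∈ W, w2 v = true → False := by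
    intro v hv hw
    obtain ⟨i, j, hij, rfl⟩ := w2_spec hw
    have h1 : h * (d i * d j) * h⁻¹ ∈ T := by
      have := hv
      rw [Subgroup.mem_comap, hψ, map_mul, fF_single, fF_single] at this
      exact this
    have h2 : h * (d i * d j) * h⁻¹ = (h * d i * h⁻¹) * (h * d j * h⁻¹) := by group
    have h3 := gT _ h1
    rw [h2] at h3
    refine hD _ (hL.conj h _ (dL i)) (odd_pair hL ho (hL.conj h _ (dL i)) (hL.conj h _ (dL j)) ?_ ?_ h3)
    · show h * d i * h⁻¹ * (h * d j * h⁻¹) = h * d j * h⁻¹ * (h * d i * h⁻¹)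
      rw [← h2, (dc i j).eq]
      group
    · intro h4
      apply hij
      apply di
      exact mul_left_cancel (mul_right_cancel h4)
  obtain ⟨v, hv, w, hw, h1, h2, h3⟩ := hex
  rcases w_pair v w (hev v hv) h1 (hev w hw) h2 h3 with h4 | h4 | h4
  · exact key v hv h4
  · exact key w hw h4
  · exact key (v * w) (W.mul_mem hv hw) h4

end

/-! ### `Fi24` -/

open Cfsg.Agent.H841.Tri
open Cfsg.Agent.LThreeFi24.SNine (x3)
open Cfsg.Spor (Fi24)

theorem finite24 : Finite Fi24 := Cfsg.Agent.R08.FiTwentyFour.finite_Fi24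

/-- the sign -/
theorem exists_s : ∃ s : Fi24 →* C2, (∀ a ∈ Cfsg.Agent.R08.FiTwentyFour.L, s a = gg) ∧ ∀ a ∈ commutator Fi24, s a = 1 := by
  let u : ℤˣ →* C2 := MonoidHom.mk' (fun x => if x = 1 then 1 else Multiplicative.ofAdd 1) (by decide)
  refine ⟨u.comp Cfsg.Agent.Fischer.Fi24Final.sgn, ?_, ?_⟩
  · intro t ht
    show u (Cfsg.Agent.Fischer.Fi24Final.sgn t) = _
    rw [Cfsg.Agent.R08.FiTwentyFour.sgn_L ht]
    decide
  · intro t ht
    show u (Cfsg.Agent.Fischer.Fi24Final.sgn t) = _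
    rw [Cfsg.Agent.R08.FiTwentyFour.mem_commutator_iff.1 ht, map_one]

/-- the 2-part of `|C(x3)|` -/
theorem not_dvd_C : ¬ 2 ^ 12 ∣ Nat.card (Subgroup.centralizer ({x3} : Set Fi24)) := by
  have hfin := finite24
  have hle : Subgroup.centralizer ({x3} : Set Fi24) ≤ NX := fun g hg =>
    mem_NX_of_comm (mem_centralizer_singleton_iff.1 hg)
  have hmem : ∀ g : NX, g ∈ (Subgroup.centralizer ({x3} : Set Fi24)).subgroupOf NX ↔ (g : Fi24) * x3 * (g : Fi24)⁻¹ = x3 := by
    intro g
    rw [mem_subgroupOf, mem_centralizer_singleton_iff, mul_inv_eq_iff_eq_mul]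
  have hidx : ((Subgroup.centralizer ({x3} : Set Fi24)).subgroupOf NX).index = 2 := by
    obtain ⟨n, hn⟩ := exists_inv
    have hn1 : (n : Fi24) * x3 * (n : Fi24)⁻¹ ≠ x3 := fun h => hn (Subtype.ext h)
    have hn2 : (n : Fi24) * x3 * (n : Fi24)⁻¹ = x3⁻¹ := (mem_NX.1 n.2).resolve_left hn1
    have hx : x3⁻¹ ≠ x3 := fun h => hn1 (hn2.trans h)
    rw [Subgroup.index_eq_two_iff]
    refine ⟨n, fun b => ?_⟩
    rw [hmem, hmem]
    have e1 : ((b * n : NX) : Fi24) * x3 * ((b * n : NX) : Fi24)⁻¹ = (b : Fi24) * x3⁻¹ * (b : Fi24)⁻¹ := by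
      rw [← hn2, Subgroup.coe_mul]
      group
    rw [e1]
    have e2 : (b : Fi24) * x3⁻¹ * (b : Fi24)⁻¹ = ((b : Fi24) * x3 * (b : Fi24)⁻¹)⁻¹ := by group
    rw [e2]
    rcases mem_NX.1 b.2 with h | h
    · rw [h]
      exact Or.inr ⟨rfl, hx⟩
    · rw [h, inv_inv]
      exact Or.inl ⟨rfl, hx⟩
  have h1 := Subgroup.card_mul_index ((Subgroup.centralizer ({x3} : Set Fi24)).subgroupOf NX)
  rw [hidx, card_NX, Nat.card_congr (subgroupOfEquivOfLe hle).toEquiv] at h1
  intro h
  have h2 : 2 ^ 12 * 2 ∣ 3 ^ 11 * (2 * (2 * 13685760)) := by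
    rw [← h1]
    exact Nat.mul_dvd_mul_right h 2
  revert h2
  norm_num

/-- **the 2-part of the centralizer of an element of odd order over `x3`** -/
theorem two_part {g : Fi24} (hx : Commute g x3) (ho : Odd (orderOf g))
    (hD : ∀ d ∈ Cfsg.Agent.R08.FiTwentyFour.L, ¬ Commute g d) :
    ¬ (2 ^ 8 ∣ Nat.card (centralizer {g} ⊓ centralizer {x3} ⊓ commutator Fi24 : Subgroup Fi24)) := by
  have hfin := finite24
  intro h
  have : Fact (Nat.Prime 2) := ⟨Nat.prime_two⟩
  obtain ⟨K, hK⟩ := Sylow.exists_subgroup_card_pow_prime 2 h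
  let T : Subgroup Fi24 := K.map (Subgroup.subtype _)
  have cT : Nat.card T = 2 ^ 8 := by
    rw [← hK]
    exact Nat.card_congr (K.equivMapOfInjective _ (Subgroup.subtype_injective _)).symm.toEquiv
  have hT : ∀ t ∈ T, t ∈ (centralizer {g} ⊓ centralizer {x3} ⊓ commutator Fi24 : Subgroup Fi24) := by
    rintro _ ⟨x, -, rfl⟩
    exact x.2
  obtain ⟨s, hs, hs'⟩ := exists_s
  refine two_part_gen Cfsg.Agent.R08.TetFi24A.tr (d := dd) (C := centralizer {x3}) (T := T) (g := g) ?_ dd_comm hs ?_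
    not_dvd_C ?_ ?_ cT ?_ ho ?_ hD
  · exact fun i => (dd_mem i).1
  · intro i j hij
    apply pd_inj
    have h1 := isPt_dd i
    rw [hij] at h1
    exact h1.uniq (isPt_dd j)
  · intro i
    rw [mem_centralizer_singleton_iff]
    exact (dd_mem i).2
  · intro t ht
    exact (hT t ht).1.2
  · intro t ht
    exact hs' t (hT t ht).2
  · intro t ht
    exact (show Commute t g from mem_centralizer_singleton_iff.1 (hT t ht).1.1).symm

end Cfsg.Agent.H48.OreFi.TwoPart
end

-- part: H834/Geo/GeoDN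
section
/-!
# `Fi24`: the geometry of the classes of twins in `N(⟨x3⟩)` (helper834)

The labels `L9` of the 165 transvections of `PSU(5, 2)`: every member of `DN` has a twin `PN m` (`m : L9`), and
`b ∈ Nb a ∨ Tw a b` if and only if `adj9 m n`.

* `geoDN : Geo DN zN`
-/

set_option autoImplicit false
set_option maxRecDepth 100000

namespace Cfsg.Agent.H834.GeoDN

open Cfsg
open Cfsg.Agent.LThreeFi24.Comp Cfsg.Agent.LThreeFi24.Twin
open Cfsg.Agent.H841.Tri
open Cfsg.Agent.H834.U5 (PsL PsL_mem PsL_inj PsL_x commute_PsL exists_PsL ix ix_lt ix_lb lb_ix)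
open Cfsg.Agent.SporadicStructure.FSolModel (L9 adj9 lam9)
open Cfsg.Agent.SporadicStructure.FSolEnd9 (adj9_refl)
open Cfsg.Agent.Lib.FieldFour
open Cfsg.Spor (Fi24)
open Cfsg.Agent.H597.OreFi (Geo)

/-- the member of `T0` with a label, in `N(⟨x3⟩)` -/
noncomputable def PN (m : L9) : NX := Cfsg.Agent.H841.Tri.mk (PsL m) (T0_E3 (PsL_mem m))

theorem PN_mem (m : L9) : PN m ∈ DN := T0_E3 (PsL_mem m)

theorem PN_z (m : L9) : Commute (PN m) zN :=
  (mem_T0_iff.2 (show ((PN m : NX) : Fi24) ∈ Cfsg.Agent.H834.U5.T0 from PsL_mem m)).2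

theorem PN_T0 (m : L9) : PN m ∈ Cfsg.Agent.H841.Ext.T0 DN zN := ⟨PN_mem m, PN_z m⟩

theorem PN_inj {m n : L9} (h : PN m = PN n) : m = n := PsL_inj (congrArg Subtype.val h)

theorem PN_x : PN .x = dN 0 := Subtype.ext PsL_x

theorem exists_PN {t : NX} (ht : t ∈ Cfsg.Agent.H841.Ext.T0 DN zN) : ∃ m, t = PN m := by
  obtain ⟨m, hm⟩ := exists_PsL (mem_T0_iff.1 ht)
  exact ⟨m, Subtype.ext hm⟩

theorem nb_PN {m n : L9} : PN n ∈ Nb DN (PN m) ↔ n ≠ m ∧ adj9 m n = true := by
  constructor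
  · rintro ⟨-, h2, h3⟩
    exact ⟨fun h => h2 (by rw [h]), (commute_PsL m n).1 (congrArg Subtype.val h3)⟩
  · rintro ⟨h1, h2⟩
    exact ⟨PN_mem n, fun h => h1 (PN_inj h), Subtype.ext ((commute_PsL m n).2 h2).eq⟩

/-- `m` is the label of `e` -/
def Lab (e : NX) (m : L9) : Prop := e ∈ DN ∧ Tw DN e (PN m)

theorem exists_lab {e : NX} (he : e ∈ DN) : ∃ m, Lab e m := by
  obtain ⟨t, ht, htz, hw⟩ := twN e he
  obtain ⟨m, rfl⟩ := exists_PN (t := t) ⟨ht, htz⟩
  exact ⟨m, he, hw⟩

theorem lab_PN (m : L9) : Lab (PN m) m := ⟨PN_mem m, Tw.refl _⟩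

theorem nb_symm {a b : NX} (ha : a ∈ DN) (h : b ∈ Nb DN a) : a ∈ Nb DN b :=
  ⟨ha, fun h1 => h.2.1 h1.symm, h.2.2.symm⟩

theorem Lab.nb {a b : NX} {m n : L9} (ha : Lab a m) (hb : Lab b n) : b ∈ Nb DN a ↔ n ≠ m ∧ adj9 m n = true := by
  rw [← nb_PN]
  have h1 : Nb DN a = Nb DN (PN m) := ha.2
  have h2 : Nb DN b = Nb DN (PN n) := hb.2
  rw [h1]
  constructor
  · intro h
    have h3 := nb_symm (PN_mem m) h
    rw [h2] at h3
    exact nb_symm (PN_mem n) h3
  · intro h
    have h3 := nb_symm (PN_mem m) h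
    rw [← h2] at h3
    exact nb_symm hb.1 h3

theorem Lab.tw {a b : NX} {m n : L9} (ha : Lab a m) (hb : Lab b n) : Tw DN a b ↔ m = n := by
  constructor
  · intro h
    exact PN_inj (un_gen (PN_mem m) (PN_z m) (PN_mem n) (PN_z n) (ha.2.symm.trans (h.trans hb.2)))
  · rintro rfl
    exact ha.2.trans hb.2.symm

theorem Lab.nbtw {a b : NX} {m n : L9} (ha : Lab a m) (hb : Lab b n) :
    (b ∈ Nb DN a ∨ Tw DN a b) ↔ adj9 m n = true := by
  rw [ha.nb hb, ha.tw hb]
  constructor
  · rintro (h | rfl)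
    · exact h.2
    · exact adj9_refl _
  · intro h
    by_cases h1 : m = n
    · exact Or.inr h1
    · exact Or.inl ⟨fun h2 => h1 h2.symm, h⟩

/-! ### Conjugation -/

theorem exists_g {e : NX} (he : e ∈ DN) : ∃ g : NX, Lab (g * e * g⁻¹) .x := by
  obtain ⟨t, ht, htz, hw⟩ := twN e he
  obtain ⟨g, -, h⟩ := trN t ht htz
  refine ⟨g, tsetDN.cj _ he g, ?_⟩
  have h1 := hw.conj tsetDN g
  rw [h] at h1
  rwa [PN_x]

theorem conj_injective (g : NX) : Function.Injective fun y : NX => g * y * g⁻¹ := fun _ _ h =>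
  mul_left_cancel (mul_right_cancel h)

theorem nb_conj (g : NX) {a b : NX} : g * b * g⁻¹ ∈ Nb DN (g * a * g⁻¹) ↔ b ∈ Nb DN a := by
  rw [Nb_conj tsetDN]
  exact (conj_injective g).mem_set_image

theorem tw_conj (g : NX) {a b : NX} : Tw DN (g * a * g⁻¹) (g * b * g⁻¹) ↔ Tw DN a b := by
  constructor
  · intro h
    have h1 := h.conj tsetDN g⁻¹
    have e : ∀ y : NX, g⁻¹ * (g * y * g⁻¹) * g⁻¹⁻¹ = y := fun y => by group
    rwa [e, e] at h1
  · intro h
    exact h.conj tsetDN g

theorem nbtw_conj (g : NX) {a b : NX} : (g * b * g⁻¹ ∈ Nb DN (g * a * g⁻¹) ∨ Tw DN (g * a * g⁻¹) (g * b * g⁻¹)) ↔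
    (b ∈ Nb DN a ∨ Tw DN a b) := by
  rw [nb_conj, tw_conj]

theorem cc (g y : NX) : g * (g⁻¹ * y * g) * g⁻¹ = y := by group

/-- the neighbours of a member with label `x` -/
theorem lab_nb {e a : NX} (he : Lab e .x) (ha : a ∈ Nb DN e) : ∃ k γ, Lab a (.e k γ) := by
  obtain ⟨m, hm⟩ := exists_lab ha.1
  have h1 := (he.nb hm).1 ha
  cases m with
  | x => exact absurd rfl h1.1
  | e k γ => exact ⟨k, γ, hm⟩
  | a ε α β δ => exact absurd h1.2 (by simp [adj9])

theorem nb_of_lab {e a : NX} {k : Fin 9} {γ : F4} (he : Lab e .x) (ha : Lab a (.e k γ)) : a ∈ Nb DN e :=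
  (he.nb ha).2 ⟨by simp, rfl⟩

theorem nb_e {a b : NX} {k : Fin 9} {γ γ' : F4} (ha : Lab a (.e k γ)) (hb : Lab b (.e k γ')) (h : γ' ≠ γ) :
    b ∈ Nb DN a :=
  (ha.nb hb).2 ⟨fun h1 => h (by injection h1), beq_iff_eq.2 rfl⟩

/-! ### The geometry -/

theorem lineDN : ∀ e ∈ DN, ∀ a ∈ Nb DN e, ∀ b ∈ Nb DN e, ∀ c ∈ Nb DN e, (b ∈ Nb DN a ∨ Tw DN a b) →
    (c ∈ Nb DN b ∨ Tw DN b c) → (c ∈ Nb DN a ∨ Tw DN a c) := by
  intro e he a ha b hb c hc
  obtain ⟨g, hg⟩ := exists_g he
  rw [← nbtw_conj g, ← nbtw_conj g (a := b), ← nbtw_conj g (a := a) (b := c)]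
  obtain ⟨k, γ, ha'⟩ := lab_nb hg ((nb_conj g).2 ha)
  obtain ⟨k', γ', hb'⟩ := lab_nb hg ((nb_conj g).2 hb)
  obtain ⟨k'', γ'', hc'⟩ := lab_nb hg ((nb_conj g).2 hc)
  rw [ha'.nbtw hb', hb'.nbtw hc', ha'.nbtw hc']
  intro h1 h2
  have h3 : k = k' := beq_iff_eq.1 h1
  have h4 : k' = k'' := beq_iff_eq.1 h2
  exact beq_iff_eq.2 (h3.trans h4)

theorem F4_ne : ∀ γ : F4, F4.add γ .i ≠ γ ∧ F4.add γ .w ≠ γ ∧ F4.add γ .v ≠ γ ∧ F4.add γ .w ≠ F4.add γ .i ∧
    F4.add γ .v ≠ F4.add γ .i ∧ F4.add γ .v ≠ F4.add γ .w := by decide +kernel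

theorem fiveDN : ∀ e ∈ DN, ∀ a ∈ Nb DN e, ∃ b c f : NX, b ∈ Nb DN e ∧ c ∈ Nb DN e ∧ f ∈ Nb DN e ∧ b ∈ Nb DN a ∧
    c ∈ Nb DN a ∧ f ∈ Nb DN a ∧ c ∈ Nb DN b ∧ f ∈ Nb DN b ∧ f ∈ Nb DN c := by
  intro e he a ha
  obtain ⟨g, hg⟩ := exists_g he
  obtain ⟨k, γ, ha'⟩ := lab_nb hg ((nb_conj g).2 ha)
  obtain ⟨h1, h2, h3, h4, h5, h6⟩ := F4_ne γ
  have L : ∀ γ' : F4, Lab (g * (g⁻¹ * PN (.e k γ') * g) * g⁻¹) (.e k γ') := fun γ' => by
    rw [cc]; exact lab_PN _
  refine ⟨g⁻¹ * PN (.e k (F4.add γ .i)) * g, g⁻¹ * PN (.e k (F4.add γ .w)) * g, g⁻¹ * PN (.e k (F4.add γ .v)) * g,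
    ?_, ?_, ?_, ?_, ?_, ?_, ?_, ?_, ?_⟩
  · exact (nb_conj g).1 (nb_of_lab hg (L _))
  · exact (nb_conj g).1 (nb_of_lab hg (L _))
  · exact (nb_conj g).1 (nb_of_lab hg (L _))
  · exact (nb_conj g).1 (nb_e ha' (L _) h1)
  · exact (nb_conj g).1 (nb_e ha' (L _) h2)
  · exact (nb_conj g).1 (nb_e ha' (L _) h3)
  · exact (nb_conj g).1 (nb_e (L _) (L _) h4)
  · exact (nb_conj g).1 (nb_e (L _) (L _) h5)
  · exact (nb_conj g).1 (nb_e (L _) (L _) h6)

theorem projDN : ∀ e ∈ DN, ∀ a ∈ Nb DN e, ∀ x ∈ DN, x ∉ Nb DN e → ¬ Tw DN e x →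
    ∃ u ∈ Nb DN e, (u ∈ Nb DN a ∨ Tw DN a u) ∧ x ∈ Nb DN u := by
  intro e he a ha x hx hne hnt
  obtain ⟨g, hg⟩ := exists_g he
  obtain ⟨k, γ, ha'⟩ := lab_nb hg ((nb_conj g).2 ha)
  obtain ⟨m, hm⟩ := exists_lab (tsetDN.cj x hx g)
  rw [← nb_conj g] at hne
  rw [← tw_conj g] at hnt
  rw [hg.nb hm] at hne
  rw [hg.tw hm] at hnt
  cases m with
  | x => exact absurd rfl hnt
  | e k' γ' => exact absurd ⟨by simp, rfl⟩ hne
  | a ε α β δ =>
    have L : Lab (g * (g⁻¹ * PN (.e k (lam9 k α β δ)) * g) * g⁻¹) (.e k (lam9 k α β δ)) := by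
      rw [cc]; exact lab_PN _
    refine ⟨g⁻¹ * PN (.e k (lam9 k α β δ)) * g, (nb_conj g).1 (nb_of_lab hg L), ?_, ?_⟩
    · rw [← nbtw_conj g, ha'.nbtw L]
      exact beq_iff_eq.2 rfl
    · rw [← nb_conj g, L.nb hm]
      exact ⟨by simp, beq_iff_eq.2 rfl⟩

/-! ### The numbers -/

/-- the labels are numbered from 0 to 164 -/
noncomputable def ixE : L9 ≃ Fin 165 where
  toFun l := ⟨ix l, ix_lt l⟩
  invFun i := Cfsg.Agent.H834.U5.lb.getD i .x
  left_inv l := lb_ix l
  right_inv i := Fin.ext (ix_lb i.2)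

theorem card_L9 : Nat.card L9 = 165 := by
  rw [Nat.card_congr ixE, Nat.card_eq_fintype_card, Fintype.card_fin]

theorem T0_eq : Cfsg.Agent.H841.Ext.T0 DN zN = Set.range PN := by
  ext t
  constructor
  · intro ht
    obtain ⟨m, hm⟩ := exists_PN ht
    exact ⟨m, hm.symm⟩
  · rintro ⟨m, rfl⟩
    exact PN_T0 m

theorem cVDN : (Cfsg.Agent.H841.Ext.T0 DN zN).ncard = 165 := by
  rw [T0_eq, ← Set.image_univ, Set.ncard_image_of_injective _ (fun _ _ h => PN_inj h), Set.ncard_univ, card_L9]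

theorem T0_cj {g t : NX} (hg : Commute g zN) : g * t * g⁻¹ ∈ Cfsg.Agent.H841.Ext.T0 DN zN ↔
    t ∈ Cfsg.Agent.H841.Ext.T0 DN zN := by
  have key : ∀ {g t : NX}, Commute g zN → t ∈ Cfsg.Agent.H841.Ext.T0 DN zN → g * t * g⁻¹ ∈ Cfsg.Agent.H841.Ext.T0 DN zN :=
    fun hg ht => ⟨tsetDN.cj _ ht.1 _, (hg.mul_left ht.2).mul_left hg.inv_left⟩
  refine ⟨fun h => ?_, key hg⟩
  have h1 := key hg.inv_left h
  have e : g⁻¹ * (g * t * g⁻¹) * g⁻¹⁻¹ = t := by group
  rwa [e] at h1

theorem cj_surj (g : NX) (y : NX) : ∃ x, g * x * g⁻¹ = y := ⟨g⁻¹ * y * g, cc g y⟩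

theorem cNDN : ∀ x ∈ Cfsg.Agent.H841.Ext.T0 DN zN, (Nb DN x ∩ Cfsg.Agent.H841.Ext.T0 DN zN).ncard = 36 := by
  intro x hx
  obtain ⟨g, hg, h⟩ := trN x hx.1 hx.2
  have h1 : (fun y : NX => g * y * g⁻¹) '' (Nb DN x ∩ Cfsg.Agent.H841.Ext.T0 DN zN) =
      Set.range fun p : Fin 9 × F4 => PN (.e p.1 p.2) := by
    ext y
    obtain ⟨x', rfl⟩ := cj_surj g y
    rw [(conj_injective g).mem_set_image, Set.mem_inter_iff, ← nb_conj g, ← T0_cj hg, h, ← PN_x]
    constructor
    · rintro ⟨h2, h3⟩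
      obtain ⟨m, hm⟩ := exists_PN h3
      rw [hm] at h2 ⊢
      rw [nb_PN] at h2
      cases m with
      | x => exact absurd rfl h2.1
      | e k γ => exact ⟨(k, γ), rfl⟩
      | a ε α β δ => exact absurd h2.2 (by simp [adj9])
    · rintro ⟨⟨k, γ⟩, h2⟩
      rw [← h2]
      exact ⟨nb_PN.2 ⟨by simp, rfl⟩, PN_T0 _⟩
  rw [← Set.ncard_image_of_injective _ (conj_injective g), h1, ← Set.image_univ, Set.ncard_image_of_injective,
    Set.ncard_univ, Nat.card_prod, Nat.card_eq_fintype_card, Nat.card_eq_fintype_card]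
  · decide
  · rintro ⟨k, γ⟩ ⟨k', γ'⟩ h2
    have h3 := PN_inj h2
    injection h3 with h4 h5
    exact Prod.ext h4 h5

theorem cLDN : ∀ x ∈ Cfsg.Agent.H841.Ext.T0 DN zN, ∀ q ∈ Nb DN x ∩ Cfsg.Agent.H841.Ext.T0 DN zN,
    {a | a ∈ Nb DN x ∩ Cfsg.Agent.H841.Ext.T0 DN zN ∧ (a = q ∨ a ∈ Nb DN q)}.ncard = 4 := by
  intro x hx q hq
  obtain ⟨g, hg, h⟩ := trN x hx.1 hx.2
  obtain ⟨hq1, hq2⟩ := hq
  rw [← nb_conj g, h, ← PN_x] at hq1
  obtain ⟨n, hn⟩ := exists_PN ((T0_cj hg).2 hq2)
  rw [hn, nb_PN] at hq1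
  cases n with
  | x => exact absurd rfl hq1.1
  | a ε α β δ => exact absurd hq1.2 (by simp [adj9])
  | e k γ =>
    have h1 : (fun y : NX => g * y * g⁻¹) '' {a | a ∈ Nb DN x ∩ Cfsg.Agent.H841.Ext.T0 DN zN ∧ (a = q ∨ a ∈ Nb DN q)} =
        Set.range fun γ' : F4 => PN (.e k γ') := by
      ext y
      obtain ⟨x', rfl⟩ := cj_surj g y
      rw [(conj_injective g).mem_set_image, Set.mem_setOf_eq, Set.mem_inter_iff, ← nb_conj g, ← T0_cj hg, h, ← PN_x,
        ← nb_conj g (a := q), hn, ← (conj_injective g).eq_iff (a := x') (b := q)]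
      show ((g * x' * g⁻¹ ∈ Nb DN (PN .x) ∧ g * x' * g⁻¹ ∈ Cfsg.Agent.H841.Ext.T0 DN zN) ∧
        (g * x' * g⁻¹ = g * q * g⁻¹ ∨ g * x' * g⁻¹ ∈ Nb DN (PN (.e k γ)))) ↔ _
      rw [hn]
      constructor
      · rintro ⟨⟨h2, h3⟩, h4⟩
        obtain ⟨m, hm⟩ := exists_PN h3
        rw [hm] at h2 h4 ⊢
        rw [nb_PN] at h2 h4
        cases m with
        | x => exact absurd rfl h2.1
        | a ε α β δ => exact absurd h2.2 (by simp [adj9])
        | e k' γ' =>
          rcases h4 with h4 | h4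
          · rw [h4]; exact ⟨γ, rfl⟩
          · have h5 : k = k' := beq_iff_eq.1 h4.2
            rw [h5]; exact ⟨γ', rfl⟩
      · rintro ⟨γ', h2⟩
        rw [← h2]
        refine ⟨⟨nb_PN.2 ⟨by simp, rfl⟩, PN_T0 _⟩, ?_⟩
        by_cases h3 : γ' = γ
        · left; show PN _ = PN _; rw [h3]
        · right
          exact nb_PN.2 ⟨fun h4 => h3 (by injection h4), beq_iff_eq.2 rfl⟩
    rw [← Set.ncard_image_of_injective _ (conj_injective g), h1, ← Set.image_univ, Set.ncard_image_of_injective,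
      Set.ncard_univ, Nat.card_eq_fintype_card]
    · decide
    · intro γ₁ γ₂ h2
      have h3 := PN_inj h2
      injection h3

/-- **The geometry of the classes of twins in `N(⟨x3⟩)`.** -/
theorem geoDN : Geo DN zN where
  line := lineDN
  five := fiveDN
  proj := projDN
  cV := cVDN
  cN := cNDN
  cL := cLDN

end Cfsg.Agent.H834.GeoDN
end

-- part: H597/OreFi/NineB
section
/-!
# `Fi24'`: elements of order 9 and 27 whose power of order 3 is 3-central (helper597)

* `card_dvd` : `|C(g) ∩ N(⟨x3⟩)|` divides `2 ^ 12 * 3 ^ 12 * 5 * 11`;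
* `wd_two` : `Wd 2`.
-/

set_option autoImplicit false
set_option maxRecDepth 100000

namespace Cfsg.Agent.H597.OreFi.NineB

open Subgroup
open Cfsg.Agent.LThreeFi24.Comp Cfsg.Agent.LThreeFi24.Twin Cfsg.Agent.H841.Ext
open Cfsg.Agent.H841.Tri
open Cfsg.Agent.LThreeFi24.SNine
open Cfsg.Agent.R08.FiTwentyFour (L)
open Cfsg.Spor (Fi24)

theorem finite_NX : Finite NX := by
  have : Finite Fi24 := Cfsg.Agent.R08.FiTwentyFour.finite_Fi24
  infer_instance

/-- abstract form of `exists_moved` -/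
theorem exists_moved' {X : Type*} [Group X] [Finite X] {D : Set X} {x z : X} {d : Fin 5 → X} (H : Dat D x z d)
    (hc : Nat.card (Qc D (d 0)) = 27) (hx : Nat.card (zpowers x) = 3) {g : X} {b : ℕ} (hb : 2 ≤ b)
    (hg : orderOf g = 3 ^ b) : ∃ p ∈ D, ¬ Tw D p (g * p * g⁻¹) := by
  by_contra hcon
  have hF : Fx D g := by
    intro e he
    by_contra h
    exact hcon ⟨e, he, fun h' => h h'.symm⟩
  have h1 := (H.fx_iff hc hx).1 hF
  have hn : (QQ D).Normal := H.normal_Q
  obtain ⟨q, hq, w, hw, e⟩ := Subgroup.mem_sup_of_normal_left.1 h1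
  have hww : w * w = 1 := by
    obtain ⟨k, rfl⟩ := Subgroup.mem_zpowers_iff.1 hw
    rw [← (Commute.refl z).mul_zpow, H.zz, one_zpow]
  have h2 : g ^ 2 ∈ QQ D := by
    have e1 : g ^ 2 = q * (w * q * w⁻¹) := by
      rw [← e, pow_two]
      calc q * w * (q * w) = q * (w * q * w⁻¹) * (w * w) := by group
        _ = _ := by rw [hww, mul_one]
    rw [e1]
    exact mul_mem hq (hn.conj_mem q hq w)
  have h3 : (g ^ 2) ^ 3 = 1 := (H.es_card hc hx).1.cub _ h2
  rw [← pow_mul] at h3
  have h4 : 3 ^ b ∣ 2 * 3 := by rw [← hg]; exact orderOf_dvd_of_pow_eq_one h3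
  have h5 : 3 ^ 2 ∣ 2 * 3 := (pow_dvd_pow 3 hb).trans h4
  exact absurd h5 (by norm_num)

/-- an element of order a power of 3, at least 9, moves a class of twins -/
theorem exists_moved {g : NX} {b : ℕ} (hb : 2 ≤ b) (hg : orderOf g = 3 ^ b) :
    ∃ p ∈ DN, ¬ Tw DN p (g * p * g⁻¹) := by
  have := finite_NX
  exact exists_moved' dat card_Qc card_xN hb hg

/-- the order of the centralizer in `N(⟨x3⟩)` -/
theorem card_dvd {g : NX} (hc : Commute g xN) {b : ℕ} (hb : 2 ≤ b) (hg : orderOf g = 3 ^ b) :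
    Nat.card (centralizer ({g} : Set NX)) ∣ 2 ^ 12 * 3 ^ 12 * 5 * 11 := by
  have := finite_NX
  have hn : (QQ DN).Normal := dat.normal_Q
  obtain ⟨p0, hp0, hpt0⟩ := exists_moved hb hg
  have hr := rank dat Cfsg.Agent.H834.GeoDN.geoDN card_Qc card_xN (g := g) hc (n := b)
    (by rw [← hg, pow_orderOf_eq_one]) hp0 hpt0
  obtain ⟨j, hj, hj'⟩ := (Nat.dvd_prime_pow (by norm_num : Nat.Prime 3)).1
    (card_QQ ▸ Subgroup.card_dvd_of_le (inf_le_right : centralizer ({g} : Set NX) ⊓ QQ DN ≤ QQ DN))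
  have hj7 : j ≤ 7 := by
    rw [hj'] at hr
    exact (Nat.pow_le_pow_iff_right (by norm_num)).1 hr
  have e1 : Nat.card (QQ DN ⊓ centralizer ({g} : Set NX) : Subgroup NX) * (QQ DN).relIndex (centralizer ({g} : Set NX)) =
      Nat.card (centralizer ({g} : Set NX)) := by
    have := Subgroup.relIndex_mul_relIndex ⊥ (QQ DN ⊓ centralizer ({g} : Set NX)) (centralizer ({g} : Set NX)) bot_le
      inf_le_right
    rwa [relIndex_bot_left, relIndex_bot_left, inf_relIndex_right] at this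
  have e2 : (QQ DN).index = 2 * (2 * 13685760) := by
    have := Subgroup.card_mul_index (QQ DN)
    rw [card_QQ, card_NX] at this
    exact Nat.eq_of_mul_eq_mul_left (by positivity) this
  have e3 : (QQ DN).relIndex (centralizer ({g} : Set NX)) ∣ 2 * (2 * 13685760) := by
    rw [← e2]
    exact Subgroup.relIndex_dvd_index_of_normal _ _
  rw [← e1, inf_comm, hj']
  have e4 : 3 ^ j ∣ 3 ^ 7 := pow_dvd_pow 3 hj7
  have e5 := mul_dvd_mul e4 e3
  have e6 : (3 ^ 7 * (2 * (2 * 13685760)) : ℕ) = 2 ^ 12 * 3 ^ 12 * 5 * 11 := by norm_num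
  rwa [e6] at e5

theorem num_bound {m : ℕ} (h : m ∣ 2 ^ 12 * 3 ^ 12 * 5 * 11) (h2 : ¬ 2 ^ 8 ∣ m) (h5 : ¬ 5 ∣ m) (h11 : ¬ 11 ∣ m) :
    m ≤ 78382080 := by
  have c11 : m.Coprime 11 := Nat.coprime_comm.1 ((Nat.Prime.coprime_iff_not_dvd (by norm_num)).2 h11)
  have c5 : m.Coprime 5 := Nat.coprime_comm.1 ((Nat.Prime.coprime_iff_not_dvd (by norm_num)).2 h5)
  have h1 : m ∣ 2 ^ 12 * 3 ^ 12 := c5.dvd_of_dvd_mul_right (c11.dvd_of_dvd_mul_right h)
  obtain ⟨a, c, ha, hc, e⟩ := (Nat.dvd_mul.1 h1)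
  obtain ⟨i, hi, rfl⟩ := (Nat.dvd_prime_pow (by norm_num : Nat.Prime 2)).1 ha
  have hi7 : i ≤ 7 := by
    by_contra hcon
    apply h2
    rw [← e]
    exact (pow_dvd_pow 2 (by omega : 8 ≤ i)).trans (dvd_mul_right _ _)
  have h3 : 2 ^ i * c ∣ 2 ^ 7 * 3 ^ 12 := mul_dvd_mul (pow_dvd_pow 2 hi7) hc
  rw [e] at h3
  exact (Nat.le_of_dvd (by norm_num) h3).trans (by norm_num)

/-- **width five** -/
theorem wd_two : Cfsg.Agent.H48.OreFi.Nine.Wd 2 := by
  apply Cfsg.Agent.H48.OreFi.Nine.Wd.of_X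
  intro g b hb hg hX hD
  have hfin : Finite Fi24 := Cfsg.Agent.R08.FiTwentyFour.finite_Fi24
  have hX' : (g : Fi24) ^ 3 ^ (b - 1) = x3 := by
    rw [hX, Cfsg.Agent.LThreeFi24.CaseB.word_x3]
    rfl
  have hgx : Commute (g : Fi24) x3 := by rw [← hX']; exact (Commute.refl _).pow_right _
  have hgo : orderOf (g : Fi24) = 3 ^ b := by rw [Subgroup.orderOf_coe, hg]
  have hodd : Odd (orderOf (g : Fi24)) := by rw [hgo]; exact Odd.pow (by decide)
  -- the group `K`
  let K : Subgroup Fi24 := centralizer {(g : Fi24)} ⊓ centralizer {x3} ⊓ commutator Fi24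
  have hmap : (centralizer ({g} : Set Spor.Fi24')).map (commutator Fi24).subtype = K := by
    ext x
    constructor
    · rintro ⟨y, hy, rfl⟩
      have h1 : (y : Fi24) * (g : Fi24) = (g : Fi24) * y := congrArg Subtype.val (mem_centralizer_singleton_iff.1 hy)
      refine ⟨⟨mem_centralizer_singleton_iff.2 h1, mem_centralizer_singleton_iff.2 ?_⟩, y.2⟩
      show Commute (y : Fi24) x3
      rw [← hX']
      exact Commute.pow_right h1 _
    · rintro ⟨⟨h1, -⟩, h2⟩
      exact ⟨⟨x, h2⟩, mem_centralizer_singleton_iff.2 (Subtype.ext (mem_centralizer_singleton_iff.1 h1)), rfl⟩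
  have hcard : Nat.card (centralizer ({g} : Set Spor.Fi24')) = Nat.card K := by
    rw [← hmap]
    exact Nat.card_congr ((centralizer ({g} : Set Spor.Fi24')).equivMapOfInjective _
        (Subgroup.subtype_injective _)).toEquiv
  let gN : NX := ⟨(g : Fi24), mem_NX_of_comm hgx⟩
  have hgN : orderOf gN = 3 ^ b := by
    rw [← hgo]
    exact (Subgroup.orderOf_coe gN).symm
  have hK : Nat.card K ∣ 2 ^ 12 * 3 ^ 12 * 5 * 11 := by
    refine dvd_trans ?_ (card_dvd (g := gN) (Subtype.ext hgx) hb hgN)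
    have e1 : Nat.card (centralizer ({gN} : Set NX)) = Nat.card ((centralizer ({gN} : Set NX)).map NX.subtype) :=
      Nat.card_congr ((centralizer ({gN} : Set NX)).equivMapOfInjective _ (Subgroup.subtype_injective _)).toEquiv
    rw [e1]
    apply Subgroup.card_dvd_of_le
    rintro x ⟨⟨h1, h2⟩, -⟩
    refine ⟨⟨x, mem_NX_of_comm (mem_centralizer_singleton_iff.1 h2)⟩, ?_, rfl⟩
    exact mem_centralizer_singleton_iff.2 (Subtype.ext (mem_centralizer_singleton_iff.1 h1))
  rw [hcard]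
  refine num_bound hK (Cfsg.Agent.H48.OreFi.TwoPart.two_part hgx hodd hD) ?_ ?_
  · rw [← hcard]
    refine NotFive.not_five ?_ hD
    rw [hg]
    intro h
    have := Nat.Prime.dvd_of_dvd_pow (by norm_num) h
    omega
  · intro h11
    have : Fact (Nat.Prime 11) := ⟨by norm_num⟩
    obtain ⟨y, hy⟩ := exists_prime_orderOf_dvd_card' 11 h11
    have hy' : orderOf (y : Fi24) = 11 := by rw [Subgroup.orderOf_coe, hy]
    have hc := (Cfsg.Agent.H256.Sep.FiData.data11 (R := zpowers (y : Fi24)) (by rw [Nat.card_zpowers, hy'])).1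
    have hgy : (g : Fi24) ∈ centralizer ((zpowers (y : Fi24) : Subgroup Fi24) : Set Fi24) := by
      rw [mem_centralizer_iff]
      rintro _ ⟨k, rfl⟩
      have h1 : (y : Fi24) * (g : Fi24) = (g : Fi24) * y := mem_centralizer_singleton_iff.1 y.2.1.1
      exact (Commute.zpow_left h1 k).eq
    have h1 : 3 ^ b ∣ 264 := by
      refine dvd_trans ?_ hc
      rw [← hgo]
      exact Subgroup.orderOf_dvd_natCard _ hgy
    have h2 : 3 ^ 2 ∣ 264 := (pow_dvd_pow 3 hb).trans h1
    exact absurd h2 (by norm_num)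

end Cfsg.Agent.H597.OreFi.NineB
end

private theorem dce_2c4be6eff13d : _root_.True := by
  try have : _root_.True := by simp only [_root_.Cfsg.Agent.H48.OreFi.TwoPart.w2.eq_1]
  try have : _root_.True := by simp only [_root_.Cfsg.Agent.H48.OreFi.TwoPart.wB.eq_1]
  try have : _root_.True := by simp only [_root_.Cfsg.Agent.H48.OreFi.TwoPart.ev.eq_1]
  try have : _root_.True := by simp only [_root_.Cfsg.Agent.H48.OreFi.TwoPart.w4.eq_1]
  try have : _root_.True := by simp only [_root_.Cfsg.Agent.H48.OreFi.TwoPart.sg.eq_1]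
  exact _root_.True.intro
end

-- part: H980/Ore/ThRow
section
set_option linter.all false
open scoped Cfsg.Agent.FastGrp

/-!
# Ore for the Thompson group: the reduction to the class product sieve (helper980)

`bound` : an element with a centralizer of odd order has `|C(x)| < 2 ^ 15` or is `1`.
`ore_of` : the row, from `|C(g)| ≤ 32767 → g` is a commutator.
-/

set_option autoImplicit false

namespace Cfsg.Agent.H980.Ore.ThRow

open Subgroup Cfsg Cfsg.Agent.H777.Ore Cfsg.Agent.H502.TO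

universe u

/-- an element of the Thompson group which commutes with no involution has a small centralizer -/
theorem bound {x : Spor.Th} (hx : x ≠ 1) (hodd : Odd (Nat.card (centralizer ({x} : Set Spor.Th)))) :
    Nat.card (centralizer ({x} : Set Spor.Th)) < 2 ^ 15 := by
  have := fin_th
  by_cases h7 : 7 ∣ Nat.card (centralizer ({x} : Set Spor.Th))
  · obtain ⟨y, hyF, hy⟩ := exists_of_dvd (by norm_num) h7
    have hyx : y * x = x * y := mem_centralizer_singleton_iff.1 hyF
    have hxy : x ∈ centralizer ({y} : Set Spor.Th) := mem_centralizer_singleton_iff.2 hyx.symm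
    have h1 := Cfsg.Agent.H468.PW.ThP.card_cent hy
    have h2 : ¬ 2 ∣ Nat.card (centralizer ({x} : Set Spor.Th)) :=
      fun h => (Nat.not_even_iff_odd.2 hodd) (even_iff_two_dvd.2 h)
    have hoF : orderOf x ∣ Nat.card (centralizer ({x} : Set Spor.Th)) := dvd_of_comm rfl
    have ho : orderOf x ∣ 1176 := by
      rw [← h1]
      exact dvd_of_comm hyx.symm
    by_cases h7x : 7 ∣ orderOf x
    · have hz : orderOf (x ^ (orderOf x / 7)) = 7 := orderOf_pow_orderOf_div (orderOf_pos x).ne' h7x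
      have hle : centralizer ({x} : Set Spor.Th) ≤ centralizer ({x ^ (orderOf x / 7)} : Set Spor.Th) := by
        intro u hu
        rw [mem_centralizer_singleton_iff]
        exact ((show Commute u x from mem_centralizer_singleton_iff.1 hu).pow_right _).eq
      have h3 := Subgroup.card_le_of_le hle
      rw [Cfsg.Agent.H468.PW.ThP.card_cent hz] at h3
      exact lt_of_le_of_lt h3 (by norm_num)
    · exfalso
      have h3 : orderOf x ∣ 3 := by
        have k1 : orderOf x ∣ (3 * 7 ^ 2) * 2 ^ 3 := ho.trans (by norm_num)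
        have k2 := dvd_of_not Nat.prime_two k1 (fun h => h2 (h.trans hoF))
        exact dvd_of_not (by norm_num) k2 h7x
      rcases (Nat.dvd_prime Nat.prime_three).1 h3 with h4 | h4
      · exact hx (orderOf_eq_one_iff.1 h4)
      · obtain ⟨i, hi1, hi2, hi3⟩ := Cfsg.Agent.H894.ThThree.exists_inv_of_three (x := x) (by rw [← h4]; exact pow_orderOf_eq_one x)
        apply h2
        have hi : orderOf i = 2 := by
          have : Fact (Nat.Prime 2) := ⟨Nat.prime_two⟩
          exact orderOf_eq_prime (by rw [pow_two]; exact hi2) hi1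
        rw [← hi]
        exact dvd_of_comm hi3.symm
  · exact main hx hodd h7

/-- the row, from the sieve -/
theorem allC_of (T1 : ∀ g : Spor.Th, Nat.card (centralizer ({g} : Set Spor.Th)) ≤ 32767 → IsC g) : AllC Spor.Th := by
  intro x
  have := fin_th
  by_cases hx : x = 1
  · rw [hx]; exact isC_one
  by_cases hodd : Odd (Nat.card (centralizer ({x} : Set Spor.Th)))
  · exact T1 x (by have := bound hx hodd; omega)
  · rw [Nat.not_odd_iff_even, even_iff_two_dvd] at hodd
    obtain ⟨i, hiF, hi⟩ := exists_of_dvd Nat.prime_two hodd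
    exact ThLoc.isC_of_comm_inv hi (mem_centralizer_singleton_iff.1 hiF).symm

theorem ore_of (T1 : ∀ g : Spor.Th, Nat.card (centralizer ({g} : Set Spor.Th)) ≤ 32767 → IsC g)
    {S : Type u} [Group S] (h : Spor.IsoTh S) : AllC S := by
  obtain ⟨e⟩ := h
  exact (allC_of T1).congr e.symm

end Cfsg.Agent.H980.Ore.ThRow
end

-- part: H868/Ore/Fi24A
section
set_option linter.all false
open scoped Cfsg.Agent.FastGrp

/-!
# `Fi24'`: `|C(z) ∩ C(s)| ≤ 78382080` for `z = a b` of class 2A and `s` of order three (helper868, for S2443)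
-/

set_option autoImplicit false

namespace Cfsg.Agent.H868.Ore.Fi24A

open Cfsg Subgroup
open Cfsg.Agent.R08
open Cfsg.Agent.R08.FiTwentyFour (L)

/-- a transposition commuting with `a b` commutes with `a` -/
theorem comm_left {F : Type*} [Group F] {a b c : F} (ha : a * a = 1) (hb : b * b = 1) (hc : c * c = 1) (hab : a ≠ b)
    (h1 : Commute a c ∨ a * c * a = c * a * c) (h2 : Commute b c ∨ b * c * b = c * b * c)
    (h : Commute c (a * b)) : Commute c a := by
  have key : c * (a * b) * c = a * b := by rw [h.eq, mul_assoc, hc, mul_one]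
  by_contra hca
  have h3 : a * c * a = c * a * c := h1.resolve_left fun h => hca h.symm
  have h4 : a * b = (a * c * a) * (c * b * c) := by
    rw [h3]
    calc a * b = c * (a * b) * c := key.symm
      _ = c * a * (c * c) * b * c := by rw [hc, mul_one]; group
      _ = c * a * c * (c * b * c) := by group
  rcases h2 with h2 | h2
  · have h5 : c * b * c = b := by rw [← h2.eq, mul_assoc, hc, mul_one]
    rw [h5] at h4
    have h6 : a = a * c * a := mul_right_cancel h4
    have h7 : (1 : F) = c * a := by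
      have h8 : a * 1 = a * (c * a) := by rw [mul_one, ← mul_assoc]; exact h6
      exact mul_left_cancel h8
    apply hca
    have h9 : c = a := by
      calc c = c * (a * a) := by rw [ha, mul_one]
        _ = (c * a) * a := by rw [mul_assoc]
        _ = a := by rw [← h7, one_mul]
    rw [h9]
  · rw [← h2] at h4
    have h5 : b = c * a * (b * c * b) := by
      have h8 : a * b = a * (c * a * (b * c * b)) := by rw [h4]; group
      exact mul_left_cancel h8
    have h6 : (1 : F) = c * a * (b * c) := by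
      have h8 : 1 * b = c * a * (b * c) * b := by rw [one_mul]; rw [mul_assoc (c * a) (b * c) b]; exact h5
      exact mul_right_cancel h8
    have h7 : a * b = 1 := by
      have h8 : c * (a * b) * c = 1 := by
        calc c * (a * b) * c = c * a * (b * c) := by group
          _ = 1 := h6.symm
      rw [← key]; exact h8
    apply hab
    calc a = a * (b * b) := by rw [hb, mul_one]
      _ = (a * b) * b := by rw [mul_assoc]
      _ = b := by rw [h7, one_mul]

variable {a b : Spor.Fi24} (ha : a ∈ L) (hb : b ∈ L) (hne : a ≠ b) (hab : Commute a b)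

include ha hb hne hab in
/-- an element commuting with `a b` permutes `a` and `b` -/
theorem perm {g : Spor.Fi24} (hg : Commute g (a * b)) : g * a * g⁻¹ = a ∨ g * a * g⁻¹ = b := by
  have qa := FiTwentyFour.sq ha
  have qb := FiTwentyFour.sq hb
  have hc : g * a * g⁻¹ ∈ L := FiTwentyFour.conj ha g
  have hd : g * b * g⁻¹ ∈ L := FiTwentyFour.conj hb g
  have qc := FiTwentyFour.sq hc
  have qd := FiTwentyFour.sq hd
  have hcd : a * b = g * a * g⁻¹ * (g * b * g⁻¹) := by
    calc a * b = a * b * g * g⁻¹ := by group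
      _ = g * (a * b) * g⁻¹ := by rw [← hg.eq]
      _ = g * a * g⁻¹ * (g * b * g⁻¹) := by group
  have hcc : Commute (g * a * g⁻¹) (g * b * g⁻¹) := by
    have h1 := hab.map (MulAut.conj g).toMonoidHom
    exact h1
  have h1 : Commute (g * a * g⁻¹) (a * b) := by
    rw [hcd]; exact (Commute.refl _).mul_right hcc
  have h2 : Commute (g * b * g⁻¹) (a * b) := by
    rw [hcd]; exact hcc.symm.mul_right (Commute.refl _)
  have h3 := comm_left qa qb qc hne (FiTwentyFour.three ha hc) (FiTwentyFour.three hb hc) h1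
  have h4 := comm_left qa qb qd hne (FiTwentyFour.three ha hd) (FiTwentyFour.three hb hd) h2
  have h5 := comm_left qb qa qc hne.symm (FiTwentyFour.three hb hc) (FiTwentyFour.three ha hc) (by rw [← hab.eq]; exact h1)
  have h6 := comm_left qb qa qd hne.symm (FiTwentyFour.three hb hd) (FiTwentyFour.three ha hd) (by rw [← hab.eq]; exact h2)
  exact H755.CC.FiTF.trans.four a ha b hb _ hc _ hd hne hab h3.symm h4.symm h5.symm h6.symm hcd

include ha hb hne hab in
/-- elements of order three commuting with `a b` commute with `a` and `b` -/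
theorem comm_of_three {s : Spor.Fi24} (hs : s ^ 3 = 1) (h : Commute s (a * b)) : Commute s a ∧ Commute s b := by
  have hab1 : s * (a * b) * s⁻¹ = a * b := by rw [h.eq]; group
  have hA : Commute s a := by
    rcases perm ha hb hne hab h with h1 | h1
    · exact mul_inv_eq_iff_eq_mul.1 h1
    · exfalso
      have h2 : s * b * s⁻¹ = a := by
        have h3 : b * (s * b * s⁻¹) = b * a := by
          calc b * (s * b * s⁻¹) = (s * a * s⁻¹) * (s * b * s⁻¹) := by rw [h1]
            _ = s * (a * b) * s⁻¹ := by group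
            _ = b * a := by rw [hab1, hab.eq]
        exact mul_left_cancel h3
      have h4 : s * s * a * (s * s)⁻¹ = a := by
        calc s * s * a * (s * s)⁻¹ = s * (s * a * s⁻¹) * s⁻¹ := by group
          _ = a := by rw [h1, h2]
      have h5 : s * s * s = 1 := by rw [← hs]; simp only [pow_succ, pow_zero, one_mul]
      have h6 : a = b := by
        calc a = s * s * s * a * (s * s * s)⁻¹ := by rw [h5]; group
          _ = s * (s * s * a * (s * s)⁻¹) * s⁻¹ := by group
          _ = b := by rw [h4, h1]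
      exact hne h6
  refine ⟨hA, ?_⟩
  have h1 : a * (s * b) = a * (b * s) := by
    calc a * (s * b) = s * (a * b) := by rw [← mul_assoc, ← hA.eq, mul_assoc]
      _ = a * b * s := h.eq
      _ = a * (b * s) := mul_assoc _ _ _
  exact mul_left_cancel h1

include ha hb hne hab in
/-- **the bound** -/
theorem bd {z s : commutator Spor.Fi24} (hz : (z : Spor.Fi24) = a * b) (hs : orderOf s = 3) (hzs : Commute z s) :
    Nat.card (centralizer ({z} : Set (commutator Spor.Fi24)) ⊓ centralizer ({s} : Set (commutator Spor.Fi24)) :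
      Subgroup (commutator Spor.Fi24)) ≤ 78382080 := by
  classical
  have hfin : Finite (commutator Spor.Fi24) := H755.CC.FiTF.finite_G
  have hfin2 : Finite Spor.Fi22 := Fi23A.finite_fi22
  set D : Subgroup (commutator Spor.Fi24) := centralizer {z} ⊓ centralizer {s} with hD
  have hDz : ∀ g : commutator Spor.Fi24, g ∈ D → Commute (g : Spor.Fi24) (a * b) := by
    intro g hg
    rw [← hz]
    exact congrArg Subtype.val (mem_centralizer_singleton_iff.1 hg.1)
  have hDs : ∀ g : commutator Spor.Fi24, g ∈ D → Commute (g : Spor.Fi24) s := fun g hg =>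
    congrArg Subtype.val (mem_centralizer_singleton_iff.1 hg.2)
  have hs3 : (s : Spor.Fi24) ^ 3 = 1 := by
    have h1 : s ^ 3 = 1 := by rw [← hs, pow_orderOf_eq_one]
    exact congrArg Subtype.val h1
  have hsab := comm_of_three ha hb hne hab hs3 (by rw [← hz]; exact (congrArg Subtype.val hzs.eq).symm)
  -- the stabilizer of `a`
  let H : Subgroup D :=
    { carrier := {g | Commute ((g : commutator Spor.Fi24) : Spor.Fi24) a}
      one_mem' := Commute.one_left a
      mul_mem' := fun {x y} hx hy => Commute.mul_left hx hy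
      inv_mem' := fun {x} hx => Commute.inv_left hx }
  have hDH : Nat.card D ≤ 2 * Nat.card H := by
    by_cases hex : ∃ g0 : D, g0 ∉ H
    · obtain ⟨g0, hg0⟩ := hex
      have h1 : ∀ g : D, g ∉ H → (g : Spor.Fi24) * a * (g : Spor.Fi24)⁻¹ = b := fun g hg =>
        (perm ha hb hne hab (hDz g g.2)).resolve_left fun h => hg (mul_inv_eq_iff_eq_mul.1 h)
      have h2 : ∀ g : D, g ∉ H → g0⁻¹ * g ∈ H := by
        intro g hg
        have h3 := h1 g hg
        have h4 := h1 g0 hg0
        show ((g0⁻¹ * g : D) : Spor.Fi24) * a = a * ((g0⁻¹ * g : D) : Spor.Fi24)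
        have h5 : ((g0⁻¹ * g : D) : Spor.Fi24) = (g0 : Spor.Fi24)⁻¹ * g := rfl
        rw [h5]
        calc (g0 : Spor.Fi24)⁻¹ * g * a = (g0 : Spor.Fi24)⁻¹ * ((g : Spor.Fi24) * a * (g : Spor.Fi24)⁻¹) * g := by group
          _ = (g0 : Spor.Fi24)⁻¹ * ((g0 : Spor.Fi24) * a * (g0 : Spor.Fi24)⁻¹) * g := by rw [h3, h4]
          _ = a * ((g0 : Spor.Fi24)⁻¹ * g) := by group
      let f : D → H ⊕ H := fun g => if hg : g ∈ H then Sum.inl ⟨g, hg⟩ else Sum.inr ⟨g0⁻¹ * g, h2 g hg⟩
      have hf : Function.Injective f := by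
        intro x y hxy
        by_cases hx : x ∈ H
        · by_cases hy : y ∈ H
          · simp only [f, hx, hy, dif_pos, Sum.inl.injEq, Subtype.mk.injEq] at hxy
            exact hxy
          · simp only [f, hx, hy, dif_pos, dif_neg, not_false_eq_true, reduceCtorEq] at hxy
        · by_cases hy : y ∈ H
          · simp only [f, hx, hy, dif_pos, dif_neg, not_false_eq_true, reduceCtorEq] at hxy
          · simp only [f, hx, hy, dif_neg, not_false_eq_true, Sum.inr.injEq, Subtype.mk.injEq, mul_right_inj] at hxy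
            exact hxy
      have h3 := Nat.card_le_card_of_injective f hf
      rw [Nat.card_sum] at h3
      omega
    · push Not at hex
      have h1 : H = ⊤ := (Subgroup.eq_top_iff' H).2 hex
      rw [h1, Subgroup.card_top]
      omega
  obtain ⟨π, -, hker, -⟩ := FiTwentyFour.loc ha hb hne hab
  have hmem : ∀ g : D, g ∈ H → ((g : commutator Spor.Fi24) : Spor.Fi24) ∈ commutator Spor.Fi24 ⊓ centralizer {a, b} := by
    intro g hg
    have hga : Commute ((g : commutator Spor.Fi24) : Spor.Fi24) a := hg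
    have hgz := hDz g g.2
    have hgb : Commute ((g : commutator Spor.Fi24) : Spor.Fi24) b := by
      have h1 : a * ((g : Spor.Fi24) * b) = a * (b * g) := by
        calc a * ((g : Spor.Fi24) * b) = g * (a * b) := by rw [← mul_assoc, ← hga.eq, mul_assoc]
          _ = a * b * g := hgz.eq
          _ = a * (b * g) := mul_assoc _ _ _
      exact mul_left_cancel h1
    refine ⟨(g : commutator Spor.Fi24).2, mem_centralizer_iff.2 ?_⟩
    rintro w (rfl | rfl)
    · exact hga.eq.symm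
    · exact hgb.eq.symm
  let K : Subgroup Spor.Fi24 := commutator Spor.Fi24 ⊓ centralizer {a, b}
  have hsK : (s : Spor.Fi24) ∈ K := ⟨s.2, mem_centralizer_iff.2 (by
    rintro w (rfl | rfl)
    · exact hsab.1.eq.symm
    · exact hsab.2.eq.symm)⟩
  let s' : K := ⟨s, hsK⟩
  have hfinK : Finite K := by
    have h1 : K ≤ commutator Spor.Fi24 := inf_le_left
    exact Finite.of_injective (Subgroup.inclusion h1) (Subgroup.inclusion_injective h1)
  have hzK : (z : Spor.Fi24) ∈ K := ⟨z.2, by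
    rw [hz]
    refine mem_centralizer_iff.2 ?_
    rintro w (rfl | rfl)
    · exact ((Commute.refl w).mul_right hab).eq
    · exact (hab.symm.mul_right (Commute.refl w)).eq⟩
  let z' : K := ⟨z, hzK⟩
  have hker' : ∀ c : K, π c = 1 → c = 1 ∨ c = z' := by
    intro c hc
    rcases (hker c).1 hc with h | h
    · exact Or.inl (Subtype.ext h)
    · exact Or.inr (Subtype.ext (h.trans hz.symm))
  have hzz : z' * z' = 1 := by
    apply Subtype.ext
    show (z : Spor.Fi24) * z = 1
    rw [hz]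
    calc a * b * (a * b) = a * (b * a) * b := by group
      _ = a * (a * b) * b := by rw [hab.eq]
      _ = (a * a) * (b * b) := by group
      _ = 1 := by rw [FiTwentyFour.sq ha, FiTwentyFour.sq hb, one_mul]
  have hs' : orderOf s' = 3 := by
    rw [Subgroup.orderOf_mk, ← hs]
    exact orderOf_coe s
  have hH : Nat.card H ≤ Nat.card (centralizer ({s'} : Set K)) := by
    refine Nat.card_le_card_of_injective (fun g => ⟨⟨((g : D) : commutator Spor.Fi24), hmem g g.2⟩, ?_⟩) ?_
    · exact mem_centralizer_singleton_iff.2 (Subtype.ext (hDs g (g : D).2).eq)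
    · intro x y hxy
      exact Subtype.ext (Subtype.ext (Subtype.ext
        (congrArg (fun t : centralizer ({s'} : Set K) => ((t : K) : Spor.Fi24)) hxy)))
  have h2 := Fi23A.card_le_of_ker π hker' s'
  have h3 := H759.Ore.Fi22Cent.card_le (MulEquiv.refl Spor.Fi22) (Fi23A.orderOf_three π hzz hker' hs')
  have h4 : Nat.card H ≤ 2 * 19595520 := (hH.trans h2).trans (Nat.mul_le_mul_left 2 h3)
  omega

end Cfsg.Agent.H868.Ore.Fi24A
end

-- part: H48/OreFi/RowFin
section
set_option linter.all false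

/-!
# The row `Fi24'` of the Ore conjecture: final form (helper48, for S2443)
-/

set_option autoImplicit false

namespace Cfsg.Agent.H48.OreFi

open Cfsg Cfsg.Agent.H777.Ore
open Cfsg.Agent.H48.OreFi.Nine (Wd)

theorem bdA : BdA := fun _ _ _ _ ha hb hne hab hz hs hzs =>
  Cfsg.Agent.H868.Ore.Fi24A.bd ha hb hne hab hz hs hzs

/-- the row, given the orders 9 and 27 over the widths 6, 5, 0 and the row `Fi23` -/
theorem allC_fin (h23 : AllC Spor.Fi23) (h1 : Wd 1) (h2 : Wd 2) (h4 : Wd 4) : AllC Spor.Fi24' :=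
  allC_of bdA (Nine.h9_of h23 h1 h2 h4) (DN := 57477) (DX := 125120) (by norm_num) (by norm_num)
    Cfsg.Agent.H26.Ore.Fi24Deg.hDN Cfsg.Agent.H26.Ore.Fi24Deg.hDX

end Cfsg.Agent.H48.OreFi
end
end
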